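import Cfsg.Agent.ZStar.Main
import Cfsg.Agent.SylowConj.Basic
import Cfsg.Agent.CoprimeAction.Invariant

/-!
# Elements without further conjugates in a Sylow 2-subgroup
-/

set_option autoImplicit false
set_option linter.style.haveILetI false
set_option linter.unusedSectionVars false
set_option linter.deprecated false

namespace CfsgLib.ZStar

open Cfsg
open scoped Pointwise

universe u

/-- `x` has no other conjugate in the Sylow subgroup, and neither has any of its powers. -/
def ClosedElt {G : Type u} [Group G] (S : Sylow 2 G) (x : G) : Prop :=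
  x ∈ S ∧ ∀ (j : ℕ) (g : G), g * x ^ j * g⁻¹ ∈ S → g * x ^ j * g⁻¹ = x ^ j

theorem ClosedElt.commute {G : Type u} [Group G] {S : Sylow 2 G} {x : G} (h : ClosedElt S x) (j : ℕ) {s : G}
    (hs : s ∈ S) : Commute s (x ^ j) :=
  mul_inv_eq_iff_eq_mul.1
    (h.2 j s ((S : Subgroup G).mul_mem ((S : Subgroup G).mul_mem hs ((S : Subgroup G).pow_mem h.1 j))
      ((S : Subgroup G).inv_mem hs)))

theorem ClosedElt.map {G : Type u} [Group G] [Finite G] [Fact (Nat.Prime 2)] {S : Sylow 2 G} {x : G}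
    (h : ClosedElt S x) (N : Subgroup G) [N.Normal] :
    ClosedElt (S.mapSurjective (QuotientGroup.mk'_surjective N)) (x : G ⧸ N) := by
  refine ⟨⟨x, h.1, rfl⟩, fun j gq hg => ?_⟩
  induction gq using QuotientGroup.induction_on with
  | H g =>
    set y := g * x ^ j * g⁻¹ with hy
    obtain ⟨s, hs, hseq⟩ := hg
    have hyL : y ∈ (S : Subgroup G) ⊔ N := by
      have h2 : ((s⁻¹ * y : G) : G ⧸ N) = 1 := by
        rw [QuotientGroup.mk_mul, QuotientGroup.mk_inv]
        change ((s : G) : G ⧸ N)⁻¹ * _ = 1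
        rw [show ((s : G) : G ⧸ N) = (g : G ⧸ N) * (x : G ⧸ N) ^ j * (g : G ⧸ N)⁻¹ from hseq, hy,
          QuotientGroup.mk_mul, QuotientGroup.mk_mul, QuotientGroup.mk_inv, QuotientGroup.mk_pow, inv_mul_cancel]
      have := mul_mem (Subgroup.mem_sup_left (T := N) hs) (Subgroup.mem_sup_right ((QuotientGroup.eq_one_iff _).1 h2))
      rwa [mul_inv_cancel_left] at this
    have hpg : IsPGroup 2 (Subgroup.zpowers y) := by
      have : Subgroup.zpowers y = (Subgroup.zpowers (x ^ j)).map (MulAut.conj g).toMonoidHom := by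
        rw [MonoidHom.map_zpowers]; rfl
      rw [this]
      exact (S.2.to_le (Subgroup.zpowers_le.2 ((S : Subgroup G).pow_mem h.1 j))).map _
    obtain ⟨k, hk, hkS⟩ := CfsgLib.SylowConj.exists_conj_mem ((S : Subgroup G) ⊔ N) S le_sup_left
      (Subgroup.zpowers y) hpg (Subgroup.zpowers_le.2 hyL)
    have h1 : k * y * k⁻¹ = x ^ j := by
      have h3 := hkS y (Subgroup.mem_zpowers y)
      rw [hy, show k * (g * x ^ j * g⁻¹) * k⁻¹ = k * g * x ^ j * (k * g)⁻¹ by group] at h3 ⊢
      exact h.2 j (k * g) h3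
    have h4 : ∀ k' ∈ (S : Subgroup G) ⊔ N, Commute (k' : G ⧸ N) ((x : G ⧸ N) ^ j) := by
      intro k' hk'
      rw [← SetLike.mem_coe, Subgroup.mul_normal] at hk'
      obtain ⟨a, ha, b, hb, rfl⟩ := hk'
      show Commute ((a * b : G) : G ⧸ N) _
      rw [QuotientGroup.mk_mul, (QuotientGroup.eq_one_iff b).2 hb, mul_one, ← QuotientGroup.mk_pow]
      exact (h.commute j ha).map (QuotientGroup.mk' N)
    have h5 : (k : G ⧸ N) * (y : G ⧸ N) * (k : G ⧸ N)⁻¹ = (x : G ⧸ N) ^ j := by
      rw [← QuotientGroup.mk_inv, ← QuotientGroup.mk_mul, ← QuotientGroup.mk_mul, h1, QuotientGroup.mk_pow]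
    rw [hy, QuotientGroup.mk_mul, QuotientGroup.mk_mul, QuotientGroup.mk_inv, QuotientGroup.mk_pow] at h5
    refine mul_left_cancel (a := (k : G ⧸ N)) (mul_right_cancel (b := (k : G ⧸ N)⁻¹) ?_)
    rw [h5, (h4 k hk).eq, mul_inv_cancel_right]

theorem closed_central_aux : ∀ (k : ℕ) (G : Type u) [Group G] [Finite G] (S : Sylow 2 G) (x : G),
    pPrimeCore 2 G = ⊥ → ClosedElt S x → x ^ 2 ^ k = 1 → x ∈ Subgroup.center G := by
  haveI := Fact.mk Nat.prime_two
  intro k
  induction k with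
  | zero =>
    intro G _ _ S x _ _ hx
    rw [pow_zero, pow_one] at hx
    rw [hx]
    exact one_mem _
  | succ k ih =>
    intro G _ _ S x hO hS hx
    by_cases h1 : x ^ 2 ^ k = 1
    · exact ih G S x hO hS h1
    set z := x ^ 2 ^ k with hz
    have hz2 : orderOf z = 2 := orderOf_eq_prime (by rw [hz, ← pow_mul, ← pow_succ]; exact hx) h1
    have hzc : z ∈ Subgroup.center G := by
      have hiso := isolated_of_sylow S hz2 ((S : Subgroup G).pow_mem hS.1 _) (hS.2 (2 ^ k))
      rw [Subgroup.mem_center_iff]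
      intro g
      have h := zstar hiso g
      rw [hO, Subgroup.mem_bot, mul_inv_eq_one, mul_inv_eq_iff_eq_mul] at h
      exact h.symm
    set N := Subgroup.zpowers z with hN
    haveI hNn : N.Normal := ⟨fun a ha g => by
      rw [Subgroup.mem_center_iff.1 ((Subgroup.zpowers_le.2 hzc) ha) g, mul_inv_cancel_right]
      exact ha⟩
    -- the quotient has trivial core
    have hcore : pPrimeCore 2 (G ⧸ N) = ⊥ := by
      set L := (pPrimeCore 2 (G ⧸ N)).comap (QuotientGroup.mk' N) with hL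
      haveI : (pPrimeCore 2 (G ⧸ N)).Normal := Cfsg.pPrimeCore_normal 2 _
      have hLn : L.Normal := Subgroup.Normal.comap inferInstance _
      have hLcard : Nat.card L = 2 * Nat.card (pPrimeCore 2 (G ⧸ N)) := by
        rw [hL, CfsgLib.PCore.card_comap_mk', show Nat.card N = 2 from (Nat.card_zpowers z).trans hz2]
      obtain ⟨T⟩ := (inferInstance : Nonempty (Sylow 2 L))
      have hT : IsCyclic (T : Subgroup L) := by
        have hc : Nat.card (T : Subgroup L) = 2 := by
          rw [T.card_eq_multiplicity, hLcard, Nat.factorization_mul (by norm_num) Nat.card_pos.ne',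
            Finsupp.add_apply, Nat.Prime.factorization_self Nat.prime_two,
            Nat.factorization_eq_zero_of_not_dvd (CfsgLib.PCore.not_dvd_card_pPrimeCore 2 _)]
          norm_num
        exact isCyclic_of_prime_card hc
      rw [eq_bot_iff]
      intro yq hy
      induction yq using QuotientGroup.induction_on with
      | H g =>
        have hgL : g ∈ L := hy
        have hreg : (prest 2 (⟨g, hgL⟩ : L)) = 1 := by
          have hm := mem_core_of_cyclic T hT (part_spec (p := 2) (⟨g, hgL⟩ : L)).2.2.2.1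
          have h2 := Subgroup.mem_map_of_mem L.subtype hm
          haveI := hLn
          rw [CfsgLib.PCore.map_pPrimeCore_normal, hO, bot_inf_eq, Subgroup.mem_bot] at h2
          exact Subtype.ext h2
        obtain ⟨he, -, ⟨i, hi⟩, -, -, -⟩ := part_spec (p := 2) (⟨g, hgL⟩ : L)
        rw [hreg, mul_one] at he
        rw [he, Subgroup.orderOf_mk] at hi
        have h3 : orderOf (g : G ⧸ N) ∣ 2 ^ i := hi ▸ orderOf_map_dvd (QuotientGroup.mk' N) g
        have h4 : orderOf (g : G ⧸ N) ∣ Nat.card (pPrimeCore 2 (G ⧸ N)) := by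
          rw [← Subgroup.orderOf_mk (g : G ⧸ N) hy]
          exact orderOf_dvd_natCard _
        exact Subgroup.mem_bot.2 (orderOf_eq_one_iff.1 (Nat.eq_one_of_dvd_coprimes
          ((CfsgLib.PCore.pPrimeCore_coprime 2 _).symm.pow_left i) h3 h4))
    have hq := ih (G ⧸ N) (S.mapSurjective (QuotientGroup.mk'_surjective N)) (x : G ⧸ N) hcore (hS.map N) (by
      rw [← QuotientGroup.mk_pow, QuotientGroup.eq_one_iff]
      exact Subgroup.mem_zpowers z)
    rw [Subgroup.mem_center_iff]
    intro g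
    have h5 : ((g * x * g⁻¹ * x⁻¹ : G) : G ⧸ N) = 1 := by
      rw [QuotientGroup.mk_mul, QuotientGroup.mk_mul, QuotientGroup.mk_mul, QuotientGroup.mk_inv, QuotientGroup.mk_inv,
        Subgroup.mem_center_iff.1 hq (g : G ⧸ N), mul_inv_cancel_right, mul_inv_cancel]
    have hzS : N ≤ (S : Subgroup G) := Subgroup.zpowers_le.2 ((S : Subgroup G).pow_mem hS.1 _)
    have h6 : g * x * g⁻¹ ∈ S := by
      have := (S : Subgroup G).mul_mem (hzS ((QuotientGroup.eq_one_iff _).1 h5)) hS.1
      rwa [inv_mul_cancel_right] at this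
    have h7 := hS.2 1 g (by rw [pow_one]; exact h6)
    rw [pow_one] at h7
    exact mul_inv_eq_iff_eq_mul.1 h7

/-- An element of a Sylow 2-subgroup none of whose powers has another conjugate there is central modulo `O(G)`. -/
theorem closed_central {G : Type u} [Group G] [Finite G] {S : Sylow 2 G} {x : G} (h : ClosedElt S x) :
    (x : G ⧸ pPrimeCore 2 G) ∈ Subgroup.center (G ⧸ pPrimeCore 2 G) := by
  haveI := Fact.mk Nat.prime_two
  haveI : (pPrimeCore 2 G).Normal := Cfsg.pPrimeCore_normal 2 G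
  obtain ⟨k, hk⟩ := S.2 ⟨x, h.1⟩
  have hk' : x ^ 2 ^ k = 1 := congrArg Subtype.val hk
  refine closed_central_aux k _ _ _ CfsgLib.PCore.pPrimeCore_quotient (h.map _) ?_
  rw [← QuotientGroup.mk_pow, hk', QuotientGroup.mk_one]

/-- Conversely, the part of a Sylow 2-subgroup central modulo `O(G)` is centralized together with any prescribed
fusion. -/
theorem exists_central_extension {G : Type u} [Group G] [Finite G] (S : Sylow 2 G) (P : Subgroup G)
    (hP : P ≤ (S : Subgroup G)) {g : G} (hg : ∀ y ∈ P, g * y * g⁻¹ ∈ S) :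
    ∃ h : G, (∀ y ∈ P, h * y * h⁻¹ = g * y * g⁻¹) ∧
      ∀ y ∈ (S : Subgroup G) ⊓ (Subgroup.center (G ⧸ pPrimeCore 2 G)).comap (QuotientGroup.mk' (pPrimeCore 2 G)),
        h * y * h⁻¹ = y := by
  haveI := Fact.mk Nat.prime_two
  set K := pPrimeCore 2 G with hK
  haveI : K.Normal := Cfsg.pPrimeCore_normal 2 G
  set Z := (S : Subgroup G) ⊓ (Subgroup.center (G ⧸ K)).comap (QuotientGroup.mk' K) with hZ
  have hSK : ∀ y : G, y ∈ S → y ∈ K → y = 1 := fun y h1 h2 => by
    have h := CfsgLib.PCore.inf_eq_bot_of_isPGroup_of_coprime (p := 2) (P := (S : Subgroup G)) (Q := K) S.2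
      (CfsgLib.PCore.pPrimeCore_coprime 2 G)
    exact Subgroup.mem_bot.1 (h ▸ Subgroup.mem_inf.2 ⟨h1, h2⟩)
  have hcong : ∀ (h : G), ∀ y ∈ Z, h * y * h⁻¹ * y⁻¹ ∈ K := by
    intro h y hy
    rw [← QuotientGroup.eq_one_iff]
    have hc : (y : G ⧸ K) ∈ Subgroup.center (G ⧸ K) := hy.2
    rw [QuotientGroup.mk_mul, QuotientGroup.mk_mul, QuotientGroup.mk_mul, QuotientGroup.mk_inv, QuotientGroup.mk_inv,
      Subgroup.mem_center_iff.1 hc (h : G ⧸ K), mul_inv_cancel_right, mul_inv_cancel]
  have hcomm : ∀ s ∈ (S : Subgroup G), ∀ y ∈ Z, Commute s y := by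
    intro s hs y hy
    have hy' : y ∈ S := hy.1
    exact mul_inv_eq_iff_eq_mul.1 (mul_inv_eq_one.1 (hSK (s * y * s⁻¹ * y⁻¹)
      ((S : Subgroup G).mul_mem ((S : Subgroup G).mul_mem ((S : Subgroup G).mul_mem hs hy')
        ((S : Subgroup G).inv_mem hs)) ((S : Subgroup G).inv_mem hy')) (hcong s y hy)))
  set P' := P.map (MulAut.conj g).toMonoidHom with hP'
  set C := Subgroup.centralizer (P' : Set G) with hC
  set M := (Z ⊔ K) ⊓ C with hM
  set Z' := Z.map (MulAut.conj g).toMonoidHom with hZ'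
  have hZM : Z ≤ M := by
    refine le_inf le_sup_left fun y hy => Subgroup.mem_centralizer_iff.2 ?_
    rintro _ ⟨p, hp, rfl⟩
    exact (hcomm _ (hg p hp) y hy).eq
  have hZ'M : Z' ≤ M := by
    rintro _ ⟨y, hy, rfl⟩
    refine ⟨?_, Subgroup.mem_centralizer_iff.2 ?_⟩
    · have h := mul_mem (Subgroup.mem_sup_right (S := Z) (hcong g y hy)) (Subgroup.mem_sup_left (T := K) hy)
      rw [inv_mul_cancel_right] at h
      exact h
    · rintro _ ⟨p, hp, rfl⟩
      exact ((hcomm p (hP hp) y hy).map (MulAut.conj g).toMonoidHom).eq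
  have hcard : Nat.card Z = 2 ^ (Nat.card M).factorization 2 := by
    obtain ⟨a, ha⟩ := IsPGroup.iff_card.1 (S.2.to_le (inf_le_left : Z ≤ (S : Subgroup G)))
    rw [ha]
    congr 1
    refine le_antisymm ?_ ?_
    · exact (Nat.Prime.pow_dvd_iff_le_factorization Nat.prime_two Nat.card_pos.ne').1
        (ha ▸ Subgroup.card_dvd_of_le hZM)
    · have hd : Nat.card M ∣ Nat.card K * Nat.card Z := by
        refine (Subgroup.card_dvd_of_le inf_le_left).trans ?_
        rw [mul_comm]
        exact CfsgLib.PCore.card_sup_dvd K Z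
      have h := (Nat.factorization_le_iff_dvd Nat.card_pos.ne'
        (Nat.mul_pos Nat.card_pos Nat.card_pos).ne').2 hd 2
      rwa [Nat.factorization_mul Nat.card_pos.ne' Nat.card_pos.ne', Finsupp.add_apply,
        Nat.factorization_eq_zero_of_not_dvd (CfsgLib.PCore.not_dvd_card_pPrimeCore 2 _), zero_add, ha,
        Nat.Prime.factorization_pow Nat.prime_two, Finsupp.single_eq_same] at h
  obtain ⟨A, hA⟩ := CfsgLib.CoprimeAction.exists_sylow_map hZ'M (by
    rw [hZ', Subgroup.card_map_of_injective (MulAut.conj g).injective, hcard])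
  obtain ⟨B, hB⟩ := CfsgLib.CoprimeAction.exists_sylow_map hZM hcard
  obtain ⟨c, hc⟩ := MulAction.exists_smul_eq M A B
  have hconj : MulAut.conj (c : G) • Z' = Z := by
    rw [← hA, ← CfsgLib.CoprimeAction.sylow_map_conj, hc, hB]
  refine ⟨(c : G) * g, fun y hy => ?_, fun y hy => ?_⟩
  · have hcC : (c : G) ∈ C := c.2.2
    have h := Subgroup.mem_centralizer_iff.1 hcC _ (⟨y, hy, rfl⟩ : g * y * g⁻¹ ∈ P')
    calc (c : G) * g * y * ((c : G) * g)⁻¹ = (c : G) * (g * y * g⁻¹) * (c : G)⁻¹ := by group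
      _ = g * y * g⁻¹ := by rw [← h, mul_inv_cancel_right]
  · have hmem : (c : G) * g * y * ((c : G) * g)⁻¹ ∈ Z := by
      rw [← hconj, show (c : G) * g * y * ((c : G) * g)⁻¹ = (c : G) * (g * y * g⁻¹) * (c : G)⁻¹ by group]
      exact Subgroup.smul_mem_pointwise_smul _ (MulAut.conj (c : G)) Z' ⟨y, hy, rfl⟩
    exact mul_inv_eq_one.1 (hSK _ ((S : Subgroup G).mul_mem hmem.1 ((S : Subgroup G).inv_mem hy.1))
      (hcong _ y hy))

end CfsgLib.ZStar
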