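import Cfsg.Agent.ZStar.Q8Principal

/-!
# The principal 2-block for a Klein four Sylow subgroup with one class of involutions
-/

set_option autoImplicit false
set_option linter.style.haveILetI false
set_option linter.unusedSectionVars false
set_option linter.deprecated false

namespace CfsgLib.ZStar

open Cfsg CfsgLib.CharBasics CfsgLib.BrauerInd
open scoped ComplexConjugate

universe u

variable {G : Type u} [Group G] [Finite G] [Fact (Nat.Prime 2)]

/-- The regular character as a function. -/
theorem delta_mem_genChar {K : Type u} [Group K] [Finite K] [DecidableEq K] :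
    (fun y : K => if y = 1 then (Nat.card K : ℂ) else 0) ∈ genChar K := by
  haveI := Fintype.ofFinite K
  refine AddSubgroup.subset_closure (isCharacter_of_inner_nat (fun g h => ?_) fun χ => ⟨charDegree (χ : K → ℂ), ?_⟩)
  · by_cases h1 : g = 1
    · subst h1; simp
    · rw [if_neg h1, if_neg (fun e => h1 (conj_eq_one_iff.1 e))]
  · rw [classInner_eq, Finset.sum_eq_single (1 : K)]
    · rw [if_pos rfl, apply_one (isCharacter_of_irr χ.2), Complex.conj_natCast, ← mul_assoc,
        inv_mul_cancel₀ (Nat.cast_ne_zero.2 Nat.card_pos.ne'), one_mul]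
    · intro y _ hy
      rw [if_neg hy, zero_mul]
    · simp

theorem klein_sq {P : Subgroup G} (hP : IsKleinFour P) {y : G} (hy : y ∈ P) : y * y = 1 := by
  haveI := hP
  exact congrArg Subtype.val (IsKleinFour.mul_self (⟨y, hy⟩ : P))

theorem klein_orderOf {P : Subgroup G} (hP : IsKleinFour P) {y : G} (hy : y ∈ P) (h1 : y ≠ 1) : orderOf y = 2 :=
  orderOf_eq_prime (by rw [pow_two]; exact klein_sq hP hy) h1

theorem card_centralizer_mul_class (z : G) :
    Nat.card (Subgroup.centralizer ({z} : Set G)) * Nat.card (conjugatesOf z) = Nat.card G := by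
  have h1 : Nat.card (conjugatesOf z) = (Subgroup.centralizer ({z} : Set G)).index := by
    have e1 : conjugatesOf z = MulAction.orbit (ConjAct G) z := by
      ext x
      rw [ConjAct.mem_orbit_conjAct]
      exact isConj_comm
    rw [e1, Subgroup.centralizer_eq_comap_stabilizer, Nat.card_coe_set_eq]
    exact ((Subgroup.index_comap_of_surjective (f := (ConjAct.toConjAct (G := G)).toMonoidHom)
      (MulAction.stabilizer (ConjAct G) z) (ConjAct.toConjAct (G := G)).surjective).trans
      (MulAction.index_stabilizer (ConjAct G) z)).symm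
  rw [h1, Subgroup.card_mul_index]

variable (P : Sylow 2 G) (hP : IsKleinFour (P : Subgroup G))

include P hP in
theorem klein_pelt_sq {y : G} (hy : ∃ k, orderOf y = 2 ^ k) : y * y = 1 := by
  obtain ⟨k, hk⟩ := hy
  obtain ⟨Q, hQ⟩ := (IsPGroup.of_card (n := k) (by rw [Nat.card_zpowers, hk]) :
    IsPGroup 2 (Subgroup.zpowers y)).exists_le_sylow
  obtain ⟨c, hc⟩ := MulAction.exists_smul_eq G Q P
  have hmem : c * y * c⁻¹ ∈ (P : Subgroup G) := by
    rw [← hc, Sylow.coe_subgroup_smul]
    exact Subgroup.smul_mem_pointwise_smul _ _ _ (hQ (Subgroup.mem_zpowers _))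
  have h := klein_sq hP hmem
  rw [conj_mul, conj_eq_one_iff] at h
  exact h

include hP in
/-- The normal 2-complement of the centralizer of an involution of `P`. -/
theorem klein_complement {z : G} (hz : z ∈ (P : Subgroup G)) (hz1 : z ≠ 1) :
    ∃ K : Subgroup (Subgroup.centralizer ({z} : Set G)), K.Normal ∧
      4 * Nat.card K = Nat.card (Subgroup.centralizer ({z} : Set G)) ∧
      ∀ y : Subgroup.centralizer ({z} : Set G), y ∈ K ↔ ¬ 2 ∣ orderOf y := by
  classical
  haveI := hP
  haveI : Fintype (P : Subgroup G) := Fintype.ofFinite _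
  set C := Subgroup.centralizer ({z} : Set G) with hC
  have hPC : (P : Subgroup G) ≤ C := fun y hy => Subgroup.mem_centralizer_singleton_iff.2
    (congrArg Subtype.val (mul_comm_of_exponent_two IsKleinFour.exponent_two
      (⟨y, hy⟩ : (P : Subgroup G)) ⟨z, hz⟩))
  set P' : Sylow 2 C := P.subtype hPC with hP'
  have hnc : Subgroup.normalizer ((P' : Subgroup C) : Set C) ≤ Subgroup.centralizer ((P' : Subgroup C) : Set C) := by
    intro n hn
    rw [Subgroup.mem_centralizer_iff]
    intro w hw
    have hwP : (w : G) ∈ (P : Subgroup G) := hw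
    have hnn : ∀ m : C, m ∈ Subgroup.normalizer ((P' : Subgroup C) : Set C) → (Odd (orderOf m) ∨ m ∈ P') →
        Commute m w := by
      intro m hm hcase
      rcases hcase with hodd | hmem
      · have hm' : (m : G) * w * (m : G)⁻¹ ∈ (P : Subgroup G) := (Subgroup.mem_normalizer_iff.1 hm w).1 hw
        have hmz : (m : G) * z * (m : G)⁻¹ = z := by
          rw [Subgroup.mem_centralizer_singleton_iff.1 m.2, mul_inv_cancel_right]
        refine Subtype.ext ?_
        show (m : G) * w = w * m
        refine mul_inv_eq_iff_eq_mul.1 ?_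
        by_cases hw1 : (w : G) = 1
        · rw [hw1]; simp
        by_cases hwz : (w : G) = z
        · rw [hwz]; exact hmz
        have hne1 : (m : G) * w * (m : G)⁻¹ ≠ 1 := fun e => hw1 (conj_eq_one_iff.1 e)
        have hnez : (m : G) * w * (m : G)⁻¹ ≠ z := fun e => hwz (by
          rw [← hmz] at e
          exact mul_left_cancel (mul_right_cancel e))
        have hall : ∀ v : G, v ∈ (P : Subgroup G) → v = 1 ∨ v = z ∨ v = w ∨ v = z * w := by
          intro v hv
          have key := IsKleinFour.eq_finset_univ (G := (P : Subgroup G)) (x := ⟨z, hz⟩) (y := ⟨w, hwP⟩)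
            (fun e => hz1 (congrArg Subtype.val e)) (fun e => hw1 (congrArg Subtype.val e))
            (fun e => hwz (congrArg Subtype.val e).symm)
          have hv' : (⟨v, hv⟩ : (P : Subgroup G)) ∈ (Finset.univ : Finset (P : Subgroup G)) := Finset.mem_univ _
          rw [← key] at hv'
          simp only [Finset.mem_insert, Finset.mem_singleton] at hv'
          rcases hv' with e | e | e | e
          · exact Or.inr (Or.inr (Or.inr (congrArg Subtype.val e)))
          · exact Or.inr (Or.inl (congrArg Subtype.val e))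
          · exact Or.inr (Or.inr (Or.inl (congrArg Subtype.val e)))
          · exact Or.inl (congrArg Subtype.val e)
        rcases hall _ hm' with e | e | e | e
        · exact absurd e hne1
        · exact absurd e hnez
        · exact e
        · have h2 : Commute ((m : G) ^ 2) (w : G) := by
            refine mul_inv_eq_iff_eq_mul.1 ?_
            calc (m : G) ^ 2 * w * ((m : G) ^ 2)⁻¹ = m * (m * w * (m : G)⁻¹) * (m : G)⁻¹ := by rw [pow_two]; group
              _ = m * (z * w) * (m : G)⁻¹ := by rw [e]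
              _ = (m * z * (m : G)⁻¹) * (m * w * (m : G)⁻¹) := conj_mul.symm
              _ = z * (z * w) := by rw [hmz, e]
              _ = w := by rw [← mul_assoc, klein_sq hP hz, one_mul]
          obtain ⟨l, hl⟩ := hodd
          have h3 : (m : G) = ((m : G) ^ 2) ^ (l + 1) := by
            rw [← pow_mul, show 2 * (l + 1) = (2 * l + 1) + 1 by ring, pow_succ, ← hl, ← Subgroup.orderOf_coe m,
              pow_orderOf_eq_one, one_mul]
          have h4 : Commute (m : G) (w : G) := by rw [h3]; exact h2.pow_left _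
          rw [h4.eq, mul_inv_cancel_right]
      · have h := congrArg Subtype.val (mul_comm_of_exponent_two IsKleinFour.exponent_two
          (⟨(m : G), hmem⟩ : (P : Subgroup G)) ⟨(w : G), hwP⟩)
        exact Subtype.ext h
    obtain ⟨h1, h2, h3, h4, hpm, hrm⟩ := part_spec (p := 2) n
    have hp : ppart 2 n ∈ Subgroup.normalizer ((P' : Subgroup C) : Set C) := Subgroup.zpowers_le.2 hn hpm
    have hr : prest 2 n ∈ Subgroup.normalizer ((P' : Subgroup C) : Set C) := Subgroup.zpowers_le.2 hn hrm
    have hpP : ppart 2 n ∈ (P' : Subgroup C) := by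
      obtain ⟨k, hk⟩ := h3
      have hpg : IsPGroup 2 (Subgroup.zpowers (ppart 2 n)) := IsPGroup.of_card (n := k) (by rw [Nat.card_zpowers, hk])
      have hsup := hpg.to_sup_of_normal_right' P'.2 (Subgroup.zpowers_le.2 hp)
      exact (P'.3 hsup le_sup_right) ▸ Subgroup.mem_sup_left (Subgroup.mem_zpowers _)
    have c1 := hnn _ hp (Or.inr hpP)
    have c2 := hnn _ hr (Or.inl (Nat.odd_iff.2 (by omega)))
    have : Commute n w := by rw [← h1]; exact c1.mul_left c2
    exact this.eq.symm
  obtain hK := MonoidHom.ker_transferSylow_isComplement' P' hnc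
  set K := (MonoidHom.transferSylow P' hnc).ker with hKdef
  refine ⟨K, MonoidHom.normal_ker _, ?_, fun y => ⟨fun hy hd => ?_, fun hy => ?_⟩⟩
  · rw [← hK.card_mul, mul_comm]
    congr 1
    rw [show Nat.card (P' : Subgroup C) = Nat.card (P : Subgroup G) from
      Nat.card_congr (Subgroup.subgroupOfEquivOfLe hPC).toEquiv, IsKleinFour.card_four]
  · have h1 : orderOf y ∣ Nat.card K := by
      rw [← Subgroup.orderOf_mk (H := K) y hy]; exact orderOf_dvd_natCard _
    have h2 : Nat.card K = (P' : Subgroup C).index := hK.index_eq_card.symm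
    exact P'.not_dvd_index (h2 ▸ hd.trans h1)
  · have h1 : orderOf (MonoidHom.transferSylow P' hnc y) ∣ orderOf y := orderOf_map_dvd _ _
    obtain ⟨k, hk⟩ := P'.2 (MonoidHom.transferSylow P' hnc y)
    have h2 : orderOf (MonoidHom.transferSylow P' hnc y) ∣ 2 ^ k := orderOf_dvd_of_pow_eq_one hk
    have h3 : (2 ^ k).Coprime (orderOf y) :=
      (Nat.prime_two.coprime_iff_not_dvd.2 hy).pow_left k
    exact MonoidHom.mem_ker.2 (orderOf_eq_one_iff.1 (Nat.eq_one_of_dvd_coprimes h3 h2 h1))

include hP in
/-- The elements with a given involution as 2-part. -/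
theorem klein_fiber {z : G} (hz : z ∈ (P : Subgroup G)) (hz1 : z ≠ 1) :
    4 * Nat.card {g : G // ppart 2 g = z} = Nat.card (Subgroup.centralizer ({z} : Set G)) := by
  obtain ⟨K, -, hcard, hmem⟩ := klein_complement P hP hz hz1
  rw [← hcard]
  congr 1
  have hzp : ∃ k, orderOf z = 2 ^ k := ⟨1, by rw [pow_one]; exact klein_orderOf hP hz hz1⟩
  refine Nat.card_congr
    { toFun := fun g => ⟨⟨prest 2 g.1, Subgroup.mem_centralizer_singleton_iff.2 (by
          have h := (part_spec (p := 2) g.1).2.1
          rw [g.2] at h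
          exact h.eq.symm)⟩, (hmem _).2 (by rw [Subgroup.orderOf_mk]; exact (part_spec (p := 2) g.1).2.2.2.1)⟩
      invFun := fun y => ⟨z * ((y : Subgroup.centralizer ({z} : Set G)) : G), ?_⟩
      left_inv := fun g => Subtype.ext (by
        show z * prest 2 g.1 = g.1
        conv_lhs => arg 1; rw [← g.2]
        exact (part_spec (p := 2) g.1).1)
      right_inv := fun y => ?_ }
  · exact (part_unique (b := ((y : Subgroup.centralizer ({z} : Set G)) : G)) rfl
      (Subgroup.mem_centralizer_singleton_iff.1 y.1.2).symm hzp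
      (by rw [Subgroup.orderOf_coe]; exact (hmem _).1 y.2)).1
  · apply Subtype.ext; apply Subtype.ext
    exact (part_unique (b := ((y : Subgroup.centralizer ({z} : Set G)) : G)) rfl
      (Subgroup.mem_centralizer_singleton_iff.1 y.1.2).symm hzp
      (by rw [Subgroup.orderOf_coe]; exact (hmem _).1 y.2)).2

include hP in
theorem klein_main [Fintype G] (hone : ∀ s t : G, orderOf s = 2 → orderOf t = 2 → IsConj s t)
    {M : Ideal AlgInt} (hM : IsPModular 2 M) :
    ∃ (T : Finset (IrrCharacter G)) (a : IrrCharacter G → ℤ), T.card = 3 ∧ oneChar ∉ T ∧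
      (∀ χ ∈ T, a χ = 1 ∨ a χ = -1) ∧ principalBlock M G = insert oneChar (T : Set (IrrCharacter G)) ∧
      (∀ χ ∈ T, ∀ t : G, orderOf t = 2 → (χ : G → ℂ) t = a χ) ∧
      (∀ χ ∈ T, (4 : ℤ) ∣ (charDegree (χ : G → ℂ) : ℤ) - a χ) ∧
      ∀ y : G, ¬ 2 ∣ orderOf y → 1 + ∑ χ ∈ T, (a χ : ℂ) * (χ : G → ℂ) y = 0 := by
  classical
  haveI := hP
  have hG : (Nat.card G : ℂ) ≠ 0 := Nat.cast_ne_zero.2 Nat.card_pos.ne'
  obtain ⟨z0, hz0⟩ : ∃ z : (P : Subgroup G), z ≠ 1 := by
    haveI : Nontrivial (P : Subgroup G) :=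
      Finite.one_lt_card_iff_nontrivial.1 (by rw [IsKleinFour.card_four]; norm_num)
    exact exists_ne 1
  set z : G := (z0 : G) with hz
  have hz1 : z ≠ 1 := fun e => hz0 (Subtype.ext e)
  have hz2 : orderOf z = 2 := klein_orderOf hP z0.2 hz1
  set Ψ : G → ℂ := fun g => if ppart 2 g = 1 then 0 else 4 with hΨ
  have hΨcls : IsClassFunction G Ψ := fun g h => by
    simp only [hΨ, (part_conj (p := 2) g h).1]
    exact if_congr conj_eq_one_iff rfl rfl
  have hΨgen : Ψ ∈ genChar G := by
    have hf : (fun y : ↥(P : Subgroup G) => if y = 1 then (0 : ℂ) else 4) ∈ genChar (P : Subgroup G) := by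
      have e : (fun y : ↥(P : Subgroup G) => if y = 1 then (0 : ℂ) else 4)
          = 4 • ((oneChar : IrrCharacter (P : Subgroup G)) : ↥(P : Subgroup G) → ℂ)
            - fun y => if y = 1 then (Nat.card (P : Subgroup G) : ℂ) else 0 := by
        funext y
        split_ifs with hy <;> simp [oneChar_apply, IsKleinFour.card_four, hy]
      rw [e]
      exact sub_mem ((genChar _).nsmul_mem
        (AddSubgroup.subset_closure (isCharacter_of_irr (oneChar : IrrCharacter (P : Subgroup G)).2)) 4) delta_mem_genChar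
    obtain ⟨F, hF, -, hval⟩ := exists_ppart_ext P hf (fun x y h => by
      obtain ⟨c, hc⟩ := isConj_iff.1 h
      refine if_congr ⟨fun e => ?_, fun e => ?_⟩ rfl rfl
      · subst e
        exact Subtype.ext (by rw [← hc]; simp)
      · subst e
        exact Subtype.ext (conj_eq_one_iff.1 hc))
    have e : Ψ = F := by
      funext g
      obtain ⟨k, hk⟩ := (part_spec (p := 2) g).2.2.1
      obtain ⟨Q, hQ⟩ := (IsPGroup.of_card (n := k) (by rw [Nat.card_zpowers, hk]) :
        IsPGroup 2 (Subgroup.zpowers (ppart 2 g))).exists_le_sylow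
      obtain ⟨c, hc⟩ := MulAction.exists_smul_eq G Q P
      have hmem : c * ppart 2 g * c⁻¹ ∈ (P : Subgroup G) := by
        rw [← hc, Sylow.coe_subgroup_smul]
        exact Subgroup.smul_mem_pointwise_smul _ _ _ (hQ (Subgroup.mem_zpowers _))
      rw [hval g ⟨_, hmem⟩ (isConj_iff.2 ⟨c, rfl⟩), hΨ]
      refine if_congr ⟨fun e => Subtype.ext ?_, fun e => ?_⟩ rfl rfl
      · simp [e]
      · exact conj_eq_one_iff.1 (congrArg Subtype.val e)
    rw [e]
    exact hF
  have hinv2 : ∀ g : G, ppart 2 g ≠ 1 → orderOf (ppart 2 g) = 2 := fun g hg =>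
    orderOf_eq_prime (by rw [pow_two]; exact klein_pelt_sq P hP (part_spec (p := 2) g).2.2.1) hg
  -- a quarter of the elements is singular
  have hquarter : 4 * Nat.card {g : G // ppart 2 g ≠ 1} = Nat.card G := by
    have hf : ∀ t : G, orderOf t = 2 → 4 * Nat.card {g : G // ppart 2 g = t} * Nat.card (conjugatesOf z) = Nat.card G := by
      intro t ht
      obtain ⟨c, hc⟩ := isConj_iff.1 (hone z t hz2 ht)
      have e1 : Nat.card {g : G // ppart 2 g = t} = Nat.card {g : G // ppart 2 g = z} := by
        refine (Nat.card_congr ((MulAut.conj c).toEquiv.subtypeEquiv fun g => ?_)).symm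
        show ppart 2 g = z ↔ ppart 2 (c * g * c⁻¹) = t
        rw [(part_conj (p := 2) g c).1, ← hc]
        exact ⟨fun e => by rw [e], fun e => mul_left_cancel (mul_right_cancel e)⟩
      rw [e1, klein_fiber P hP z0.2 hz1]
      exact card_centralizer_mul_class z
    have hset : conjugatesOf z = {t : G | orderOf t = 2} := by
      ext t
      constructor
      · intro h
        obtain ⟨c, hc⟩ := isConj_iff.1 h
        show orderOf t = 2
        rw [← hc, ← MulAut.conj_apply, MulEquiv.orderOf_eq]; exact hz2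
      · exact fun h => hone z t hz2 h
    rw [Nat.card_eq_fintype_card, Fintype.card_subtype, Finset.card_eq_sum_card_fiberwise
      (f := fun g => ppart 2 g) (t := Finset.univ.filter fun t : G => orderOf t = 2)
      (fun g hg => by simpa using hinv2 g (by simpa using hg)), Finset.mul_sum]
    have hcst : ∀ t ∈ Finset.univ.filter (fun t : G => orderOf t = 2),
        4 * ((Finset.univ.filter fun g => ppart 2 g ≠ 1).filter fun g => ppart 2 g = t).card
          = Nat.card G / Nat.card (conjugatesOf z) := by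
      intro t ht
      simp only [Finset.mem_filter, Finset.mem_univ, true_and] at ht
      have e2 : ((Finset.univ.filter fun g => ppart 2 g ≠ 1).filter fun g => ppart 2 g = t).card
          = Nat.card {g : G // ppart 2 g = t} := by
        rw [Nat.card_eq_fintype_card, Fintype.card_subtype]
        congr 1
        ext g
        simp only [Finset.mem_filter, Finset.mem_univ, true_and]
        exact ⟨fun h => h.2, fun h => ⟨fun e => by rw [h] at e; rw [e, orderOf_one] at ht; omega, h⟩⟩
      rw [e2, ← hf t ht, Nat.mul_div_cancel]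
      exact Nat.card_pos_iff.2 ⟨⟨⟨z, mem_conjugatesOf_self⟩⟩, inferInstance⟩
    rw [Finset.sum_congr rfl hcst, Finset.sum_const, smul_eq_mul]
    have e3 : (Finset.univ.filter fun t : G => orderOf t = 2).card = Nat.card (conjugatesOf z) := by
      rw [hset, Nat.card_eq_fintype_card]
      exact (Fintype.card_subtype _).symm
    rw [e3]
    exact Nat.mul_div_cancel' ⟨_, by rw [mul_comm]; exact (hf z hz2).symm⟩
  have hX : ∀ c : ℂ, ∑ g : G, (if ppart 2 g = 1 then 0 else c) = (Nat.card G : ℂ) * c / 4 := by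
    intro c
    rw [← hquarter, Finset.sum_ite, Finset.sum_const_zero, zero_add, Finset.sum_const, nsmul_eq_mul,
      ← Fintype.card_subtype, ← Nat.card_eq_fintype_card]
    push_cast
    ring
  have hΨone : classInner Ψ ((oneChar : IrrCharacter G) : G → ℂ) = ((1 : ℤ) : ℂ) := by
    rw [classInner_eq, inv_mul_eq_iff_eq_mul₀ hG]
    simp only [hΨ, oneChar_apply, map_one, mul_one, hX]
    push_cast; ring
  have hΨnorm : classInner Ψ Ψ = ((1 : ℤ) : ℂ) * ((1 : ℤ) : ℂ) + (3 : ℕ) := by
    rw [classInner_eq, inv_mul_eq_iff_eq_mul₀ hG,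
      Finset.sum_congr rfl (g := fun g : G => if ppart 2 g = 1 then 0 else (16 : ℂ)) (fun g _ => by
        simp only [hΨ]; split_ifs <;> norm_num [map_ofNat]), hX]
    push_cast; ring
  obtain ⟨T, a, hT, hT1, hpm, hin, hout, hexp⟩ :=
    exists_small_expansion hΨgen hΨcls (c₀ := 1) (N := 3) le_rfl hΨone hΨnorm
  -- the inner product with an irreducible character
  have hsplit : ∀ χ : IrrCharacter G, χ ≠ oneChar →
      rs (χ : G → ℂ) + ∑ g, (if ppart 2 g = 1 then 0 else (χ : G → ℂ) g) = 0 ∧
      classInner Ψ (χ : G → ℂ) = 4 * (Nat.card G : ℂ)⁻¹ * conj (∑ g, (if ppart 2 g = 1 then 0 else (χ : G → ℂ) g)) := by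
    intro χ hne
    constructor
    · have h := classInner_ne χ.2 (oneChar : IrrCharacter G).2 (fun e => hne (Subtype.ext e))
      rw [classInner_eq] at h
      simp only [oneChar_apply, map_one, mul_one] at h
      refine Eq.trans ?_ ((mul_eq_zero.1 h).resolve_left (inv_ne_zero hG))
      unfold rs
      rw [← Finset.sum_add_distrib]
      exact Finset.sum_congr rfl fun g _ => by split_ifs <;> simp
    · rw [classInner_eq, map_sum, Finset.mul_sum, Finset.mul_sum]
      refine Finset.sum_congr rfl fun g _ => ?_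
      simp only [hΨ]
      split_ifs <;> simp <;> ring
  have hTB : ∀ χ ∈ T, χ ∈ principalBlock M G := by
    intro χ hχ
    by_contra hB
    obtain ⟨e1, e2⟩ := hsplit χ (fun e => hT1 (e ▸ hχ))
    rw [rs_eq_zero hM hB, zero_add] at e1
    rw [hin χ hχ, e1, map_zero, mul_zero] at e2
    rcases hpm χ hχ with e | e <;> rw [e] at e2 <;> norm_num at e2
  obtain ⟨K, hKn, -, hKmem⟩ := klein_complement P hP z0.2 hz1
  have hcoreK : K ≤ pPrimeCore 2 (Subgroup.centralizer ({z} : Set G)) := by
    refine CfsgLib.PCore.le_pPrimeCore_of_not_dvd hKn fun hd => ?_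
    obtain ⟨y, hy⟩ := exists_prime_orderOf_dvd_card' 2 hd
    exact (hKmem y).1 y.2 (by rw [Subgroup.orderOf_coe, hy])
  have hconst : ∀ χ ∈ principalBlock M G, ∀ g : G, ppart 2 g ≠ 1 → (χ : G → ℂ) g = (χ : G → ℂ) z := by
    intro χ hχ g hg
    obtain ⟨c, hc⟩ := isConj_iff.1 (hone _ z (hinv2 g hg) hz2)
    obtain ⟨h1, h2, -, h4, -, -⟩ := part_spec (p := 2) g
    set y := c * prest 2 g * c⁻¹ with hy
    have hcomm : y * z = z * y := by
      rw [hy, ← hc]
      calc c * prest 2 g * c⁻¹ * (c * ppart 2 g * c⁻¹) = c * (prest 2 g * ppart 2 g) * c⁻¹ := by group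
        _ = c * (ppart 2 g * prest 2 g) * c⁻¹ := by rw [h2.eq]
        _ = _ := by group
    have hymem : y ∈ centralizerPPrimeCore 2 z := by
      refine ⟨⟨y, Subgroup.mem_centralizer_singleton_iff.2 hcomm⟩, hcoreK ((hKmem _).2 ?_), rfl⟩
      rw [Subgroup.orderOf_mk, hy, ← MulAut.conj_apply, MulEquiv.orderOf_eq]
      exact h4
    rw [← principal_apply_mul_core hM ⟨1, by rw [pow_one]; exact hz2⟩ hχ hymem,
      show z * y = c * g * c⁻¹ by rw [hy, ← hc]; conv_rhs => rw [← h1]
                                  group,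
      CfsgLib.CharBasics.isClassFunction (isCharacter_of_irr χ.2)]
  have hval : ∀ χ ∈ principalBlock M G, χ ≠ oneChar →
      classInner Ψ (χ : G → ℂ) = (χ : G → ℂ) z := by
    intro χ hχ hne
    rw [(hsplit χ hne).2, Finset.sum_congr rfl (g := fun g : G => if ppart 2 g = 1 then 0 else (χ : G → ℂ) z)
      (fun g _ => by split_ifs with h; rfl; exact hconst χ hχ g h), hX]
    have hzinv : z⁻¹ = z := inv_eq_of_mul_eq_one_left (klein_sq hP z0.2)
    rw [map_div₀, map_mul, map_natCast, map_ofNat, conj_apply_involution (isCharacter_of_irr χ.2) hzinv]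
    field_simp
  refine ⟨T, a, hT, hT1, hpm, ?_, fun χ hχ t ht => ?_, fun χ hχ => ?_, fun y hy => ?_⟩
  · ext χ
    simp only [Set.mem_insert_iff, Finset.mem_coe]
    constructor
    · intro hχ
      by_contra hno
      push Not at hno
      have h0 : (χ : G → ℂ) z = 0 := (hval χ hχ hno.1).symm.trans (hout χ hno.2 hno.1)
      obtain ⟨e1, -⟩ := hsplit χ hno.1
      rw [Finset.sum_congr rfl (g := fun _ : G => (0 : ℂ)) (fun g _ => by
        split_ifs with h; rfl; rw [hconst χ hχ g h, h0]), Finset.sum_const_zero, add_zero] at e1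
      exact rs_ne_zero hM hχ e1
    · rintro (rfl | h)
      · exact CfsgLib.Blocks.oneChar_mem_principal hM
      · exact hTB χ h
  · obtain ⟨c, hc⟩ := isConj_iff.1 (hone z t hz2 ht)
    rw [← hc, CfsgLib.CharBasics.isClassFunction (isCharacter_of_irr χ.2),
      ← hval χ (hTB χ hχ) (fun e => hT1 (e ▸ hχ)), hin χ hχ]
  · haveI : Fintype (P : Subgroup G) := Fintype.ofFinite _
    obtain ⟨k, hk⟩ := classInner_genChar
      (genChar_comp (AddSubgroup.subset_closure (isCharacter_of_irr χ.2) : (χ : G → ℂ) ∈ genChar G)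
        (P : Subgroup G).subtype) (isCharacter_of_irr (oneChar : IrrCharacter (P : Subgroup G)).2)
    refine ⟨k - a χ, ?_⟩
    rw [classInner_eq, inv_mul_eq_iff_eq_mul₀ (Nat.cast_ne_zero.2 Nat.card_pos.ne'), IsKleinFour.card_four,
      ← Finset.add_sum_erase _ _ (Finset.mem_univ (1 : (P : Subgroup G)))] at hk
    simp only [oneChar_apply, map_one, mul_one] at hk
    rw [Finset.sum_congr rfl (g := fun _ => (a χ : ℂ)) (fun w hw => by
      have hw1 : (w : G) ≠ 1 := fun e => Finset.ne_of_mem_erase hw (Subtype.ext e)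
      obtain ⟨c, hc⟩ := isConj_iff.1 (hone z _ hz2 (klein_orderOf hP w.2 hw1))
      show (χ : G → ℂ) (w : G) = _
      rw [← hc, CfsgLib.CharBasics.isClassFunction (isCharacter_of_irr χ.2),
        ← hval χ (hTB χ hχ) (fun e => hT1 (e ▸ hχ)), hin χ hχ]), Finset.sum_const,
      Finset.card_erase_of_mem (Finset.mem_univ _), Finset.card_univ, ← Nat.card_eq_fintype_card,
      IsKleinFour.card_four, nsmul_eq_mul, apply_one (isCharacter_of_irr χ.2)] at hk
    have : (((charDegree (χ : G → ℂ) : ℤ) - a χ : ℤ) : ℂ) = ((4 * (k - a χ) : ℤ) : ℂ) := by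
      push_cast at hk ⊢
      linear_combination hk
    exact_mod_cast this
  · have h := hexp y
    rw [Int.cast_one] at h
    rw [← h]
    simp [hΨ, (part_of_regular (p := 2) hy).1]

end CfsgLib.ZStar
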