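import Cfsg.Agent.ZStar.KleinBlock
import Cfsg.Agent.Invol.KleinFour

/-!
# Counting pairs of involutions for a Klein four Sylow subgroup
-/

set_option autoImplicit false
set_option linter.style.haveILetI false
set_option linter.unusedSectionVars false
set_option linter.deprecated false

namespace CfsgLib.ZStar

open Cfsg CfsgLib.CharBasics CfsgLib.BrauerInd
open scoped ComplexConjugate

universe u

section Inverted

variable {G : Type*} [Group G] [Finite G]

/-- In a subgroup of odd order, inverted elements times fixed elements give the order. -/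
theorem card_inverted_mul_fixed (K : Subgroup G) (hK : Odd (Nat.card K)) {t : G} (ht : t * t = 1)
    (hn : ∀ k ∈ K, t * k * t ∈ K) :
    Nat.card {k : G // k ∈ K ∧ t * k * t = k⁻¹} * Nat.card {k : G // k ∈ K ∧ t * k * t = k} = Nat.card K := by
  have hti : t⁻¹ = t := inv_eq_of_mul_eq_one_left ht
  have hmul : ∀ a b : G, t * (a * b) * t = (t * a * t) * (t * b * t) := fun a b => by
    calc t * (a * b) * t = t * a * (t * t) * b * t := by rw [ht, mul_one, mul_assoc t a b]
      _ = _ := by group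
  have hinv : ∀ a : G, t * a⁻¹ * t = (t * a * t)⁻¹ := fun a => by rw [mul_inv_rev, mul_inv_rev, hti]; group
  have hsq : ∀ a : G, t * (t * a * t) * t = a := fun a => by
    calc t * (t * a * t) * t = (t * t) * a * (t * t) := by group
      _ = a := by rw [ht, one_mul, mul_one]
  let F : Subgroup K :=
    { carrier := {k | t * (k : G) * t = k}
      mul_mem' := fun {a b} ha hb => by
        show t * ((a : G) * b) * t = a * b
        rw [hmul, ha, hb]
      one_mem' := by simp [ht]
      inv_mem' := fun {a} ha => by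
        show t * (a : G)⁻¹ * t = (a : G)⁻¹
        rw [hinv, ha] }
  have hF : Nat.card F = Nat.card {k : G // k ∈ K ∧ t * k * t = k} :=
    Nat.card_congr
      { toFun := fun k => ⟨(k : G), k.1.2, k.2⟩
        invFun := fun k => ⟨⟨k.1, k.2.1⟩, k.2.2⟩
        left_inv := fun k => rfl
        right_inv := fun k => rfl }
  let f : K → {k : G // k ∈ K ∧ t * k * t = k⁻¹} := fun k =>
    ⟨(k : G) * (t * (k : G)⁻¹ * t), K.mul_mem k.2 (hn _ (K.inv_mem k.2)), by
      rw [hmul, hsq, mul_inv_rev, hinv, inv_inv]⟩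
  have hiff : ∀ a b : K, (QuotientGroup.mk a : K ⧸ F) = QuotientGroup.mk b ↔ f a = f b := by
    intro a b
    rw [QuotientGroup.eq, Subtype.ext_iff]
    show t * ((a⁻¹ * b : K) : G) * t = ((a⁻¹ * b : K) : G) ↔ _
    simp only [Subgroup.coe_mul, Subgroup.coe_inv]
    rw [hmul, hinv]
    show _ ↔ (a : G) * (t * (a : G)⁻¹ * t) = (b : G) * (t * (b : G)⁻¹ * t)
    rw [hinv, hinv]
    constructor
    · intro h
      have h' : t * (b : G) * t = t * (a : G) * t * ((a : G)⁻¹ * b) := by rw [← h]; group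
      rw [h']; group
    · intro h
      have h' : (a : G)⁻¹ * b = (t * (a : G) * t)⁻¹ * (t * (b : G) * t) := by
        calc (a : G)⁻¹ * b = (a : G)⁻¹ * ((b : G) * (t * (b : G) * t)⁻¹) * (t * (b : G) * t) := by group
          _ = (a : G)⁻¹ * ((a : G) * (t * (a : G) * t)⁻¹) * (t * (b : G) * t) := by rw [h]
          _ = _ := by group
      exact h'.symm
  have hb : Function.Bijective (Quotient.lift f fun a b h => (hiff a b).1 (Quotient.sound h)) := by
    refine ⟨fun x y => Quotient.inductionOn₂ x y fun a b h => (hiff a b).2 h, fun i => ?_⟩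
    obtain ⟨i, hiK, hi⟩ := i
    obtain ⟨l, hl⟩ := hK
    refine ⟨Quotient.mk _ (⟨i ^ (l + 1), K.pow_mem hiK _⟩ : K), Subtype.ext ?_⟩
    show i ^ (l + 1) * (t * (i ^ (l + 1))⁻¹ * t) = i
    have hp : ∀ n : ℕ, t * i ^ n * t = (i ^ n)⁻¹ := by
      intro n
      induction n with
      | zero => simp [ht]
      | succ n ih => rw [pow_succ, hmul, ih, hi, ← mul_inv_rev, ← pow_succ, ← pow_succ']
    rw [hinv, hp, inv_inv, ← pow_add, show (l + 1) + (l + 1) = Nat.card K + 1 by omega, pow_succ]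
    have h1 : i ^ Nat.card K = 1 := congrArg Subtype.val (pow_card_eq_one' (x := (⟨i, hiK⟩ : K)))
    rw [h1, one_mul]
  rw [← hF, ← Nat.card_eq_of_bijective _ hb]
  exact (Subgroup.card_eq_card_quotient_mul_card_subgroup F).symm

end Inverted

variable {G : Type u} [Group G] [Finite G] [Fact (Nat.Prime 2)]

theorem klein_sylow {P : Sylow 2 G} (hP : IsKleinFour (P : Subgroup G)) (Q : Sylow 2 G) :
    IsKleinFour (Q : Subgroup G) := by
  haveI := hP
  exact ⟨(Nat.card_congr (P.equiv Q).toEquiv).symm.trans IsKleinFour.card_four,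
    (Monoid.exponent_eq_of_mulEquiv (P.equiv Q)).symm.trans IsKleinFour.exponent_two⟩

/-- Two commuting involutions lie in a common Sylow subgroup. -/
theorem exists_sylow_pair {a b : G} (ha : orderOf a = 2) (hb : orderOf b = 2) (hab : Commute a b) :
    ∃ Q : Sylow 2 G, a ∈ (Q : Subgroup G) ∧ b ∈ (Q : Subgroup G) := by
  have hA : IsPGroup 2 (Subgroup.zpowers a) := IsPGroup.of_card (n := 1) (by rw [Nat.card_zpowers, ha, pow_one])
  have hB : IsPGroup 2 (Subgroup.zpowers b) := IsPGroup.of_card (n := 1) (by rw [Nat.card_zpowers, hb, pow_one])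
  have hle : Subgroup.zpowers a ≤ Subgroup.normalizer (Subgroup.zpowers b : Set G) := by
    refine Subgroup.zpowers_le.2 (Subgroup.mem_normalizer_iff.2 fun x => ?_)
    constructor
    · intro hx
      obtain ⟨n, rfl⟩ := Subgroup.mem_zpowers_iff.1 hx
      rw [(hab.zpow_right n).eq, mul_inv_cancel_right]
      exact ⟨n, rfl⟩
    · intro hx
      obtain ⟨n, hn⟩ := Subgroup.mem_zpowers_iff.1 hx
      have : x = b ^ n := by
        calc x = a⁻¹ * (a * x * a⁻¹) * a := by group
          _ = a⁻¹ * b ^ n * a := by rw [hn]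
          _ = b ^ n := by rw [mul_assoc, ← (hab.zpow_right n).eq, inv_mul_cancel_left]
      rw [this]
      exact ⟨n, rfl⟩
  obtain ⟨Q, hQ⟩ := (hA.to_sup_of_normal_right' hB hle).exists_le_sylow
  exact ⟨Q, hQ (Subgroup.mem_sup_left (Subgroup.mem_zpowers a)), hQ (Subgroup.mem_sup_right (Subgroup.mem_zpowers b))⟩

variable {P : Sylow 2 G} (hP : IsKleinFour (P : Subgroup G))

include hP in
/-- The centralizer of the Sylow subgroup is four times its part of odd order. -/
theorem klein_centralizer_sylow (Q : Sylow 2 G) :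
    4 * Nat.card {y : G // y ∈ Subgroup.centralizer ((Q : Subgroup G) : Set G) ∧ ¬ 2 ∣ orderOf y}
      = Nat.card (Subgroup.centralizer ((Q : Subgroup G) : Set G)) := by
  haveI := klein_sylow hP Q
  have hQC : (Q : Subgroup G) ≤ Subgroup.centralizer ((Q : Subgroup G) : Set G) := fun a ha =>
    Subgroup.mem_centralizer_iff.2 fun b hb => congrArg Subtype.val
      (mul_comm_of_exponent_two IsKleinFour.exponent_two (⟨b, hb⟩ : (Q : Subgroup G)) ⟨a, ha⟩)
  have hin : ∀ g ∈ Subgroup.centralizer ((Q : Subgroup G) : Set G), ppart 2 g ∈ (Q : Subgroup G) := by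
    intro g hg
    obtain ⟨-, -, ⟨k, hk⟩, -, hm, -⟩ := part_spec (p := 2) g
    have hpC : ppart 2 g ∈ Subgroup.centralizer ((Q : Subgroup G) : Set G) := Subgroup.zpowers_le.2 hg hm
    have hp : IsPGroup 2 (Subgroup.zpowers (ppart 2 g)) := IsPGroup.of_card (n := k) (by rw [Nat.card_zpowers, hk])
    have hsup := hp.to_sup_of_normal_right' Q.2
      (Subgroup.zpowers_le.2 (Subgroup.centralizer_le_normalizer _ hpC))
    exact (Q.3 hsup le_sup_right) ▸ Subgroup.mem_sup_left (Subgroup.mem_zpowers _)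
  have h4 : Nat.card (Q : Subgroup G) = 4 := IsKleinFour.card_four
  rw [← h4, ← Nat.card_prod]
  refine Nat.card_congr
    { toFun := fun q => ⟨(q.1 : G) * q.2.1, mul_mem (hQC q.1.2) q.2.2.1⟩
      invFun := fun g => (⟨ppart 2 g.1, hin g.1 g.2⟩, ⟨prest 2 g.1,
        Subgroup.zpowers_le.2 g.2 (part_spec (p := 2) g.1).2.2.2.2.2, (part_spec (p := 2) g.1).2.2.2.1⟩)
      left_inv := fun q => ?_
      right_inv := fun g => Subtype.ext (part_spec (p := 2) g.1).1 }
  have hu := part_unique (g := (q.1 : G) * q.2.1) rfl (Subgroup.mem_centralizer_iff.1 q.2.2.1 _ q.1.2)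
    (by
      obtain ⟨k, hk⟩ := Q.2 q.1
      obtain ⟨j, -, hj⟩ := (Nat.dvd_prime_pow Nat.prime_two).1 (orderOf_dvd_of_pow_eq_one hk)
      exact ⟨j, by rw [Subgroup.orderOf_coe, hj]⟩) q.2.2.2
  exact Prod.ext (Subtype.ext hu.1) (Subtype.ext hu.2)

theorem card_centralizer_sylow_eq (Q Q' : Sylow 2 G) :
    Nat.card (Subgroup.centralizer ((Q : Subgroup G) : Set G))
      = Nat.card (Subgroup.centralizer ((Q' : Subgroup G) : Set G)) := by
  obtain ⟨c, hc⟩ := MulAction.exists_smul_eq G Q Q'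
  have hmem : ∀ y, y ∈ (Q' : Subgroup G) ↔ c⁻¹ * y * c ∈ (Q : Subgroup G) := by
    intro y
    rw [← hc, Sylow.coe_subgroup_smul, Subgroup.mem_pointwise_smul_iff_inv_smul_mem]
    simp [MulAut.smul_def]
  refine Nat.card_congr ((MulAut.conj c).toEquiv.subtypeEquiv fun g => ?_)
  show g ∈ Subgroup.centralizer ((Q : Subgroup G) : Set G) ↔
    c * g * c⁻¹ ∈ Subgroup.centralizer ((Q' : Subgroup G) : Set G)
  simp only [Subgroup.mem_centralizer_iff, SetLike.mem_coe]
  constructor
  · intro h y hy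
    calc y * (c * g * c⁻¹) = c * ((c⁻¹ * y * c) * g) * c⁻¹ := by group
      _ = c * (g * (c⁻¹ * y * c)) * c⁻¹ := by rw [h _ ((hmem y).1 hy)]
      _ = _ := by group
  · intro h y hy
    have h1 := h (c * y * c⁻¹) ((hmem _).2 (by
      rw [show c⁻¹ * (c * y * c⁻¹) * c = y by group]; exact hy))
    calc y * g = c⁻¹ * ((c * y * c⁻¹) * (c * g * c⁻¹)) * c := by group
      _ = c⁻¹ * ((c * g * c⁻¹) * (c * y * c⁻¹)) * c := by rw [h1]
      _ = _ := by group

include hP in
/-- Odd order elements commuting with `J` and inverted by `q`. -/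
theorem klein_inverted (Q : Sylow 2 G) {J q : G} (hJ : J ∈ (Q : Subgroup G)) (hJ1 : J ≠ 1)
    (hq : q ∈ (Q : Subgroup G)) (hq1 : q ≠ 1) (hqJ : q ≠ J) :
    Nat.card {k : G // Commute J k ∧ ¬ 2 ∣ orderOf k ∧ q * k * q = k⁻¹}
        * Nat.card (Subgroup.centralizer ((P : Subgroup G) : Set G))
      = Nat.card (Subgroup.centralizer ({J} : Set G)) := by
  classical
  have hQ := klein_sylow hP Q
  haveI := hQ
  obtain ⟨K0, hK0n, hcard, hmem⟩ : ∃ K : Subgroup (Subgroup.centralizer ({J} : Set G)), K.Normal ∧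
      4 * Nat.card K = Nat.card (Subgroup.centralizer ({J} : Set G)) ∧
      ∀ y : Subgroup.centralizer ({J} : Set G), y ∈ K ↔ ¬ 2 ∣ orderOf y := klein_complement Q hQ hJ hJ1
  set K : Subgroup G := K0.map (Subgroup.centralizer ({J} : Set G)).subtype with hK
  have hKmem : ∀ k, k ∈ K ↔ Commute J k ∧ ¬ 2 ∣ orderOf k := by
    intro k
    constructor
    · rintro ⟨y, hy, rfl⟩
      exact ⟨(Subgroup.mem_centralizer_singleton_iff.1 y.2).symm, by
        rw [Subgroup.coe_subtype, Subgroup.orderOf_coe]; exact (hmem y).1 hy⟩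
    · rintro ⟨h1, h2⟩
      exact ⟨⟨k, Subgroup.mem_centralizer_singleton_iff.2 h1.symm.eq⟩, (hmem _).2 (by rw [Subgroup.orderOf_mk]; exact h2), rfl⟩
  have hcardK : Nat.card K = Nat.card K0 :=
    (Nat.card_congr (K0.equivMapOfInjective _ (Subgroup.subtype_injective _)).toEquiv).symm
  have hodd : Odd (Nat.card K) := by
    rw [Nat.odd_iff]
    by_contra h
    obtain ⟨y, hy⟩ := exists_prime_orderOf_dvd_card' 2 (show 2 ∣ Nat.card K by omega)
    exact ((hKmem y).1 y.2).2 (by rw [Subgroup.orderOf_coe, hy])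
  have hqq : q * q = 1 := klein_sq hQ hq
  have hcomm : ∀ a ∈ (Q : Subgroup G), ∀ b ∈ (Q : Subgroup G), Commute a b := fun a ha b hb =>
    congrArg Subtype.val (mul_comm_of_exponent_two IsKleinFour.exponent_two (⟨a, ha⟩ : (Q : Subgroup G)) ⟨b, hb⟩)
  have hqinv : q⁻¹ = q := inv_eq_of_mul_eq_one_left hqq
  have hn : ∀ k ∈ K, q * k * q ∈ K := by
    intro k hk
    obtain ⟨h1, h2⟩ := (hKmem k).1 hk
    refine (hKmem _).2 ⟨((hcomm J hJ q hq).mul_right h1).mul_right (hcomm J hJ q hq), ?_⟩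
    have h3 : orderOf (q * k * q⁻¹) = orderOf k := by rw [← MulAut.conj_apply, MulEquiv.orderOf_eq]
    rw [hqinv] at h3
    rwa [h3]
  have h := card_inverted_mul_fixed K hodd hqq hn
  have e1 : Nat.card {k : G // k ∈ K ∧ q * k * q = k⁻¹}
      = Nat.card {k : G // Commute J k ∧ ¬ 2 ∣ orderOf k ∧ q * k * q = k⁻¹} :=
    Nat.card_congr (Equiv.subtypeEquivRight fun k => by rw [hKmem, and_assoc])
  have e2 : Nat.card {k : G // k ∈ K ∧ q * k * q = k}
      = Nat.card {y : G // y ∈ Subgroup.centralizer ((Q : Subgroup G) : Set G) ∧ ¬ 2 ∣ orderOf y} := by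
    refine Nat.card_congr (Equiv.subtypeEquivRight fun k => ?_)
    rw [hKmem, Subgroup.mem_centralizer_iff]
    constructor
    · rintro ⟨⟨h1, h2⟩, h3⟩
      have hqk : Commute q k := by
        show q * k = k * q
        calc q * k = q * k * (q * q) := by rw [hqq, mul_one]
          _ = (q * k * q) * q := by group
          _ = k * q := by rw [h3]
      refine ⟨fun y hy => ?_, h2⟩
      haveI : Fintype (Q : Subgroup G) := Fintype.ofFinite _
      have key := IsKleinFour.eq_finset_univ (G := (Q : Subgroup G)) (x := ⟨J, hJ⟩) (y := ⟨q, hq⟩)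
        (fun e => hJ1 (congrArg Subtype.val e)) (fun e => hq1 (congrArg Subtype.val e))
        (fun e => hqJ (congrArg Subtype.val e).symm)
      have hy' : (⟨y, hy⟩ : (Q : Subgroup G)) ∈ ({⟨J, hJ⟩ * ⟨q, hq⟩, ⟨J, hJ⟩, ⟨q, hq⟩, 1} : Finset (Q : Subgroup G)) := by
        rw [key]; exact Finset.mem_univ _
      simp only [Finset.mem_insert, Finset.mem_singleton] at hy'
      rcases hy' with e | e | e | e <;> replace e := congrArg Subtype.val e <;> dsimp only at e <;> rw [e]
      · exact (h1.mul_left hqk).eq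
      · exact h1.eq
      · exact hqk.eq
      · simp
    · rintro ⟨h1, h2⟩
      exact ⟨⟨h1 J hJ, h2⟩, by rw [h1 q hq, mul_assoc, hqq, mul_one]⟩
  rw [e1, e2, hcardK] at h
  rw [card_centralizer_sylow_eq P Q, ← klein_centralizer_sylow hP Q, ← hcard, ← h]
  ring

include hP in
theorem klein_involutions_centralizer {J : G} (hJ2 : orderOf J = 2) :
    Nat.card {z : G // orderOf z = 2 ∧ Commute z J ∧ z ≠ J}
        * Nat.card (Subgroup.centralizer ((P : Subgroup G) : Set G))
      = 2 * Nat.card (Subgroup.centralizer ({J} : Set G)) := by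
  classical
  obtain ⟨Q, hJ, -⟩ := exists_sylow_pair hJ2 hJ2 (Commute.refl J)
  have hQ := klein_sylow hP Q
  haveI := hQ
  have hJ1 : J ≠ 1 := fun e => by rw [e, orderOf_one] at hJ2; omega
  have hcomm : ∀ a ∈ (Q : Subgroup G), ∀ b ∈ (Q : Subgroup G), Commute a b := fun a ha b hb =>
    congrArg Subtype.val (mul_comm_of_exponent_two IsKleinFour.exponent_two (⟨a, ha⟩ : (Q : Subgroup G)) ⟨b, hb⟩)
  haveI : Fintype (Q : Subgroup G) := Fintype.ofFinite _
  let D := {q : (Q : Subgroup G) // q ≠ 1 ∧ (q : G) ≠ J}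
  have hD : Nat.card D = 2 := by
    have : (Finset.univ.filter fun q : (Q : Subgroup G) => q ≠ 1 ∧ (q : G) ≠ J)
        = (Finset.univ.erase 1).erase ⟨J, hJ⟩ := by
      ext q
      rw [Finset.mem_filter, Finset.mem_erase, Finset.mem_erase]
      exact ⟨fun h => ⟨fun e => h.2.2 (congrArg Subtype.val e), h.2.1, h.1⟩,
        fun h => ⟨h.2.2, h.2.1, fun e => h.1 (Subtype.ext e)⟩⟩
    rw [Nat.card_eq_fintype_card, Fintype.card_subtype, this, Finset.card_erase_of_mem
      (Finset.mem_erase.2 ⟨fun e => hJ1 (congrArg Subtype.val e), Finset.mem_univ _⟩),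
      Finset.card_erase_of_mem (Finset.mem_univ _), Finset.card_univ, ← Nat.card_eq_fintype_card,
      IsKleinFour.card_four]
  let S := (q : D) × {k : G // Commute J k ∧ ¬ 2 ∣ orderOf k ∧ ((q.1 : G)) * k * (q.1 : G) = k⁻¹}
  obtain ⟨K0, hK0n, hcard, hmem⟩ : ∃ K : Subgroup (Subgroup.centralizer ({J} : Set G)), K.Normal ∧
      4 * Nat.card K = Nat.card (Subgroup.centralizer ({J} : Set G)) ∧
      ∀ y : Subgroup.centralizer ({J} : Set G), y ∈ K ↔ ¬ 2 ∣ orderOf y := klein_complement Q hQ hJ hJ1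
  have hinj : Function.Injective fun qk : ↥(Q : Subgroup G) × ↥K0 => (qk.1 : G) * ((qk.2 : Subgroup.centralizer ({J} : Set G)) : G) := by
    rintro ⟨q, k⟩ ⟨q', k'⟩ (h : (q : G) * ((k : Subgroup.centralizer ({J} : Set G)) : G) = (q' : G) * ((k' : Subgroup.centralizer ({J} : Set G)) : G))
    have h1 : ((q'⁻¹ * q : (Q : Subgroup G)) : G) = (((k' * k⁻¹ : K0) : Subgroup.centralizer ({J} : Set G)) : G) := by
      simp only [Subgroup.coe_mul, Subgroup.coe_inv]
      calc ((q' : G))⁻¹ * q = (q' : G)⁻¹ * ((q : G) * ((k : Subgroup.centralizer ({J} : Set G)) : G)) * ((k : Subgroup.centralizer ({J} : Set G)) : G)⁻¹ := by group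
        _ = (q' : G)⁻¹ * ((q' : G) * ((k' : Subgroup.centralizer ({J} : Set G)) : G)) * ((k : Subgroup.centralizer ({J} : Set G)) : G)⁻¹ := by rw [h]
        _ = _ := by group
    have h2 : (q'⁻¹ * q : (Q : Subgroup G)) = 1 := by
      by_contra hne
      have ho := klein_orderOf hQ (q'⁻¹ * q).2 (fun e => hne (Subtype.ext e))
      rw [h1, Subgroup.orderOf_coe] at ho
      exact (hmem _).1 (k' * k⁻¹).2 (by rw [ho])
    have h3 : q = q' := (inv_mul_eq_one.1 h2).symm
    subst h3
    exact Prod.ext rfl (Subtype.ext (Subtype.ext (mul_left_cancel h)))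
  have hdec : ∀ z ∈ Subgroup.centralizer ({J} : Set G), ∃ q : (Q : Subgroup G), ∃ k : K0, (q : G) * ((k : Subgroup.centralizer ({J} : Set G)) : G) = z := by
    let F : ↥(Q : Subgroup G) × ↥K0 → Subgroup.centralizer ({J} : Set G) := fun qk => ⟨(qk.1 : G) * ((qk.2 : Subgroup.centralizer ({J} : Set G)) : G),
      mul_mem (Subgroup.mem_centralizer_singleton_iff.2 (hcomm _ qk.1.2 J hJ).eq) (qk.2 : Subgroup.centralizer ({J} : Set G)).2⟩
    have hFb : Function.Bijective F := (Nat.bijective_iff_injective_and_card F).2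
      ⟨fun a b e => hinj (congrArg Subtype.val e), by rw [Nat.card_prod, IsKleinFour.card_four, hcard]⟩
    intro z hz
    obtain ⟨⟨q, k⟩, e⟩ := hFb.2 ⟨z, hz⟩
    exact ⟨q, k, congrArg Subtype.val e⟩
  have hK : ∀ {k : G} (h1 : Commute J k), ¬ 2 ∣ orderOf k →
      (⟨k, Subgroup.mem_centralizer_singleton_iff.2 h1.symm.eq⟩ : Subgroup.centralizer ({J} : Set G)) ∈ K0 := fun h1 h2 =>
    (hmem _).2 (by rw [Subgroup.orderOf_mk]; exact h2)
  have hSto : ∀ x : S, orderOf ((x.1.1 : G) * x.2.1) = 2 ∧ Commute ((x.1.1 : G) * x.2.1) J ∧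
      (x.1.1 : G) * x.2.1 ≠ J := by
    rintro ⟨⟨q, hq1, hqJ⟩, k, h1, h2, h3⟩
    have hne : (q : G) * k ≠ J := fun e => hqJ (by
      have := hinj (a₁ := (q, ⟨_, hK h1 h2⟩)) (a₂ := (⟨J, hJ⟩, 1)) (by simpa using e)
      exact congrArg (fun x : ↥(Q : Subgroup G) × ↥K0 => (x.1 : G)) this)
    refine ⟨orderOf_eq_prime ?_ fun e => hq1 ?_, (hcomm _ q.2 J hJ).mul_left h1.symm, hne⟩
    · show ((q : G) * k) ^ 2 = 1
      calc ((q : G) * k) ^ 2 = ((q : G) * k * q) * k := by rw [pow_two, ← mul_assoc]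
        _ = k⁻¹ * k := congrArg (· * k) h3
        _ = 1 := inv_mul_cancel k
    · have := hinj (a₁ := (q, ⟨_, hK h1 h2⟩)) (a₂ := (1, 1)) (by simpa using e)
      exact congrArg Prod.fst this
  have hS : Nat.card S = Nat.card {z : G // orderOf z = 2 ∧ Commute z J ∧ z ≠ J} := by
    refine Nat.card_eq_of_bijective (fun x => ⟨(x.1.1 : G) * x.2.1, hSto x⟩) ⟨?_, ?_⟩
    · rintro ⟨⟨q, hq⟩, k, h1, h2, h3⟩ ⟨⟨q', hq'⟩, k', h1', h2', h3'⟩ e
      have := hinj (a₁ := (q, ⟨_, hK h1 h2⟩)) (a₂ := (q', ⟨_, hK h1' h2'⟩)) (congrArg Subtype.val e)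
      obtain rfl : q = q' := congrArg Prod.fst this
      obtain rfl : k = k' := congrArg (fun x : ↥(Q : Subgroup G) × ↥K0 => ((x.2 : Subgroup.centralizer ({J} : Set G)) : G)) this
      rfl
    · rintro ⟨z, hz2, hzJ, hne⟩
      obtain ⟨q, k, e⟩ := hdec z (Subgroup.mem_centralizer_singleton_iff.2 hzJ.eq)
      have h2 : ¬ 2 ∣ orderOf ((k : Subgroup.centralizer ({J} : Set G)) : G) := by rw [Subgroup.orderOf_coe]; exact (hmem _).1 k.2
      have h1 : Commute J ((k : Subgroup.centralizer ({J} : Set G)) : G) := (Subgroup.mem_centralizer_singleton_iff.1 (k : Subgroup.centralizer ({J} : Set G)).2).symm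
      have hzz : z * z = 1 := by rw [← pow_two, ← hz2, pow_orderOf_eq_one]
      have h3 : (q : G) * ((k : Subgroup.centralizer ({J} : Set G)) : G) * (q : G) = ((k : Subgroup.centralizer ({J} : Set G)) : G)⁻¹ := by
        refine eq_inv_of_mul_eq_one_left ?_
        rw [mul_assoc _ (q : G), e]
        exact hzz
      refine ⟨⟨⟨q, fun hq => ?_, fun hq => ?_⟩, _, h1, h2, h3⟩, Subtype.ext e⟩
      · subst hq
        rw [OneMemClass.coe_one, one_mul] at e
        rw [e, hz2] at h2
        exact h2 dvd_rfl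
      · apply hne
        have hJJ : J * J = 1 := klein_sq hQ hJ
        rw [hq] at h3 e
        have hkk : ((k : Subgroup.centralizer ({J} : Set G)) : G) * ((k : Subgroup.centralizer ({J} : Set G)) : G) = 1 := by
          rw [mul_assoc, ← h1.eq, ← mul_assoc, hJJ, one_mul] at h3
          exact (mul_eq_one_iff_eq_inv.2 h3)
        have hk1 : ((k : Subgroup.centralizer ({J} : Set G)) : G) = 1 := by
          by_contra hk
          exact h2 (by rw [orderOf_eq_prime (by rw [pow_two]; exact hkk) hk])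
        rw [← e, hk1, mul_one]
  haveI : Finite D := inferInstance
  rw [← hS, Nat.card_sigma, Finset.sum_mul, Finset.sum_congr rfl (fun q _ =>
    klein_inverted hP Q hJ hJ1 q.1.2 (fun e => q.2.1 (Subtype.ext e)) q.2.2), Finset.sum_const, Finset.card_univ,
    ← Nat.card_eq_fintype_card, hD, smul_eq_mul]

include hP in
/-- The number of involutions whose product with `J` has even order. -/
theorem klein_singular_pairs (hone : ∀ s t : G, orderOf s = 2 → orderOf t = 2 → IsConj s t) {J : G}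
    (hJ2 : orderOf J = 2) :
    Nat.card {v : G // orderOf v = 2 ∧ ppart 2 (v * J) ≠ 1}
        * (Nat.card (Subgroup.centralizer ((P : Subgroup G) : Set G))) ^ 2
      = 2 * (Nat.card (Subgroup.centralizer ({J} : Set G))) ^ 2 := by
  classical
  have hJJ : J * J = 1 := by rw [← pow_two, ← hJ2, pow_orderOf_eq_one]
  have hJi : J⁻¹ = J := inv_eq_of_mul_eq_one_left hJJ
  let I := {z : G // orderOf z = 2 ∧ Commute z J ∧ z ≠ J}
  let S := (z : I) × {y : G // Commute z.1 y ∧ ¬ 2 ∣ orderOf y ∧ J * y * J = y⁻¹}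
  have hto : ∀ x : S, orderOf (x.1.1 * x.2.1 * J) = 2 ∧ ppart 2 (x.1.1 * x.2.1 * J * J) = x.1.1 ∧
      prest 2 (x.1.1 * x.2.1 * J * J) = x.2.1 := by
    rintro ⟨⟨z, hz2, hzJ, hne⟩, y, h1, h2, h3⟩
    obtain ⟨hp, hr⟩ := part_unique (g := z * y) rfl h1 ⟨1, by rw [hz2, pow_one]⟩ h2
    simp only [mul_assoc (z * y), hJJ, mul_one]
    refine ⟨orderOf_eq_prime ?_ fun e => hne ?_, hp, hr⟩
    · rw [pow_two]
      have hzz : z * z = 1 := by rw [← pow_two, ← hz2, pow_orderOf_eq_one]
      calc z * y * J * (z * y * J) = z * y * (J * z) * (y * J) := by group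
        _ = z * y * (z * J) * (y * J) := by rw [hzJ.eq]
        _ = z * (y * z) * (J * y * J) := by group
        _ = z * (z * y) * y⁻¹ := by rw [h1.eq, h3]
        _ = 1 := by rw [← mul_assoc, hzz, one_mul, mul_inv_cancel]
    · have hzy : z * y = J := (mul_eq_one_iff_eq_inv.1 e).trans hJi
      rw [hzy, (part_unique (p := 2) (g := J) (mul_one J) (Commute.one_right J) ⟨1, by rw [hJ2, pow_one]⟩
        (by rw [orderOf_one]; norm_num)).1] at hp
      exact hp.symm
  have hS : Nat.card S = Nat.card {v : G // orderOf v = 2 ∧ ppart 2 (v * J) ≠ 1} := by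
    refine Nat.card_eq_of_bijective (fun x => ⟨x.1.1 * x.2.1 * J, (hto x).1, by
      rw [(hto x).2.1]; exact fun e => by have := x.1.2.1; rw [e, orderOf_one] at this; omega⟩) ⟨?_, ?_⟩
    · rintro x x' e
      have e' : x.1.1 * x.2.1 * J * J = x'.1.1 * x'.2.1 * J * J := congrArg (fun v : {v : G // _} => v.1 * J) e
      have ez : x.1.1 = x'.1.1 := by rw [← (hto x).2.1, e', (hto x').2.1]
      have ey : x.2.1 = x'.2.1 := by rw [← (hto x).2.2, e', (hto x').2.2]
      obtain ⟨⟨z, hz⟩, y, hy⟩ := x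
      obtain ⟨⟨z', hz'⟩, y', hy'⟩ := x'
      obtain rfl : z = z' := ez
      obtain rfl : y = y' := ey
      rfl
    · rintro ⟨v, hv2, hsing⟩
      have hvv : v * v = 1 := by rw [← pow_two, ← hv2, pow_orderOf_eq_one]
      set w := v * J with hw
      obtain ⟨h1, h2, h3, h4, hm, -⟩ := part_spec (p := 2) w
      set z := ppart 2 w with hz
      have hz2 : orderOf z = 2 := orderOf_eq_prime (by rw [pow_two]; exact klein_pelt_sq P hP h3) hsing
      have hzz : z * z = 1 := by rw [← pow_two, ← hz2, pow_orderOf_eq_one]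
      have hzi : z⁻¹ = z := inv_eq_of_mul_eq_one_left hzz
      have hwinv : J * w * J⁻¹ = w⁻¹ := by
        rw [hw, mul_inv_rev, hJi, inv_eq_of_mul_eq_one_left hvv, mul_assoc, mul_assoc v J J, hJJ, mul_one]
      obtain ⟨hp', hr'⟩ := part_unique (p := 2) (g := w⁻¹) (a := z) (b := (prest 2 w)⁻¹)
        (calc z * (prest 2 w)⁻¹ = (prest 2 w)⁻¹ * z⁻¹ := by rw [h2.inv_right.eq, hzi]
            _ = (z * prest 2 w)⁻¹ := (mul_inv_rev _ _).symm
            _ = w⁻¹ := congrArg Inv.inv h1) h2.inv_right h3 (by rw [orderOf_inv]; exact h4)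
      have hc := part_conj (p := 2) w J
      rw [hwinv, hp', hr'] at hc
      have hzJ : Commute z J := by
        show z * J = J * z
        calc z * J = J * z * J⁻¹ * J := by rw [← hc.1]
          _ = J * z := by group
      have hne : z ≠ J := by
        intro e
        have hcomm : Commute w J := by
          rw [← h1, ← e]
          exact (Commute.refl z).mul_left h2.symm
        have : w * w = 1 := by
          have h5 : w⁻¹ = w := by rw [← hwinv, hcomm.symm.eq, mul_inv_cancel_right]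
          calc w * w = w⁻¹ * w := by rw [h5]
            _ = 1 := inv_mul_cancel w
        have hw2 : orderOf w = 2 := orderOf_eq_prime (by rw [pow_two]; exact this) fun e1 => by
          rw [hz, e1, (part_of_regular (p := 2) (a := (1 : G)) (by rw [orderOf_one]; norm_num)).1] at hsing
          exact hsing rfl
        have hzw : z = w := by
          rw [hz, (part_unique (p := 2) (g := w) (mul_one w) (Commute.one_right w) ⟨1, by rw [hw2, pow_one]⟩
            (by rw [orderOf_one]; norm_num)).1]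
        have hv1 : v = 1 := by
          have : v * J = J := hw ▸ hzw.symm.trans e
          exact mul_eq_right.1 this
        rw [hv1, orderOf_one] at hv2
        omega
      refine ⟨⟨⟨z, hz2, hzJ, hne⟩, prest 2 w, h2, h4, ?_⟩, Subtype.ext ?_⟩
      · rw [hc.2, hJi]
      · show z * prest 2 w * J = v
        rw [h1, hw, mul_assoc, hJJ, mul_one]
  haveI := Fintype.ofFinite I
  rw [← hS, Nat.card_sigma, pow_two, ← mul_assoc, Finset.sum_mul, Finset.sum_congr rfl (g := fun _ =>
      Nat.card (Subgroup.centralizer ({J} : Set G))) (fun z _ => ?_)]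
  · have := klein_involutions_centralizer hP hJ2
    rw [Finset.sum_const, Finset.card_univ, ← Nat.card_eq_fintype_card, smul_eq_mul, mul_right_comm, this]
    ring
  · obtain ⟨Q, hJQ, hzQ⟩ := exists_sylow_pair hJ2 z.2.1 z.2.2.1.symm
    rw [klein_inverted hP Q hzQ (fun e => by have := z.2.1; rw [e, orderOf_one] at this; omega) hJQ
      (fun e => by rw [e, orderOf_one] at hJ2; omega) z.2.2.2.symm]
    have h1 := card_centralizer_mul_class z.1
    have h2 := card_centralizer_mul_class J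
    rw [(hone _ _ z.2.1 hJ2).conjugatesOf_eq, ← h2] at h1
    exact Nat.eq_of_mul_eq_mul_right (Nat.card_pos_iff.2 ⟨⟨⟨J, mem_conjugatesOf_self⟩⟩, inferInstance⟩) h1

include hP in
/-- Members of the principal block are constant on singular elements with given involution part. -/
theorem klein_singular_apply [Fintype G] {M : Ideal AlgInt} (hM : IsPModular 2 M) {χ : IrrCharacter G}
    (hχ : χ ∈ principalBlock M G) {g : G} (hg : ppart 2 g ≠ 1) :
    (χ : G → ℂ) g = (χ : G → ℂ) (ppart 2 g) := by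
  obtain ⟨h1, h2, h3, h4, -, -⟩ := part_spec (p := 2) g
  have hz2 : orderOf (ppart 2 g) = 2 := orderOf_eq_prime (by rw [pow_two]; exact klein_pelt_sq P hP h3) hg
  obtain ⟨Q, hzQ, -⟩ := exists_sylow_pair hz2 hz2 (Commute.refl _)
  have hQ := klein_sylow hP Q
  obtain ⟨K, hKn, -, hKmem⟩ := klein_complement Q hQ hzQ hg
  have hcoreK : K ≤ pPrimeCore 2 (Subgroup.centralizer ({ppart 2 g} : Set G)) := by
    refine CfsgLib.PCore.le_pPrimeCore_of_not_dvd hKn fun hd => ?_
    obtain ⟨y, hy⟩ := exists_prime_orderOf_dvd_card' 2 hd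
    exact (hKmem y).1 y.2 (by rw [Subgroup.orderOf_coe, hy])
  have hymem : prest 2 g ∈ centralizerPPrimeCore 2 (ppart 2 g) := by
    refine ⟨⟨prest 2 g, Subgroup.mem_centralizer_singleton_iff.2 h2.symm.eq⟩, hcoreK ((hKmem _).2 ?_), rfl⟩
    rw [Subgroup.orderOf_mk]
    exact h4
  conv_lhs => rw [← h1]
  exact principal_apply_mul_core hM h3 hχ hymem

include hP in
/-- The order formula. -/
theorem klein_order (hone : ∀ s t : G, orderOf s = 2 → orderOf t = 2 → IsConj s t) [Fintype G]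
    {M : Ideal AlgInt} (hM : IsPModular 2 M) {T : Finset (IrrCharacter G)} {a : IrrCharacter G → ℤ}
    (hT : ∀ χ ∈ T, χ ∈ principalBlock M G) (hpm : ∀ χ ∈ T, a χ = 1 ∨ a χ = -1) (hcard : T.card = 3)
    (hval : ∀ χ ∈ T, ∀ t : G, orderOf t = 2 → (χ : G → ℂ) t = a χ)
    (hrel : ∀ y : G, ¬ 2 ∣ orderOf y → 1 + ∑ χ ∈ T, (a χ : ℂ) * (χ : G → ℂ) y = 0) {J : G} (hJ2 : orderOf J = 2) :
    (Nat.card G : ℂ) * (1 + ∑ χ ∈ T, (a χ : ℂ) / (χ : G → ℂ) 1)
        * (Nat.card (Subgroup.centralizer ((P : Subgroup G) : Set G)) : ℂ) ^ 2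
      = 8 * (Nat.card (Subgroup.centralizer ({J} : Set G)) : ℂ) ^ 3 := by
  classical
  have haa : ∀ χ ∈ T, (a χ : ℂ) * (a χ : ℂ) = 1 := fun χ hχ => by rcases hpm χ hχ with e | e <;> simp [e]
  have hΦ : ∀ g : G, 1 + ∑ χ ∈ T, (a χ : ℂ) * (χ : G → ℂ) g = if ppart 2 g = 1 then 0 else 4 := by
    intro g
    split_ifs with h
    · refine hrel g ?_
      have h1 := (part_spec (p := 2) g).1
      rw [h, one_mul] at h1
      rw [← h1]
      exact (part_spec (p := 2) g).2.2.2.1
    · rw [Finset.sum_congr rfl (g := fun _ => (1 : ℂ)) (fun χ hχ => by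
        rw [klein_singular_apply hP hM (hT χ hχ) h, hval χ hχ _
          (orderOf_eq_prime (by rw [pow_two]; exact klein_pelt_sq P hP (part_spec (p := 2) g).2.2.1) h), haa χ hχ]),
        Finset.sum_const, hcard]
      norm_num
  have hsum : ∑ x : G, (if ppart 2 (x * J * x⁻¹ * J) = 1 then (0 : ℂ) else 4)
      = (Nat.card G : ℂ) * (1 + ∑ χ ∈ T, (a χ : ℂ) / (χ : G → ℂ) 1) := by
    simp only [← hΦ, Finset.sum_add_distrib, Finset.sum_const, Finset.card_univ, ← Nat.card_eq_fintype_card,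
      nsmul_eq_mul, mul_add, mul_one]
    rw [Finset.sum_comm, Finset.mul_sum]
    congr 1
    refine Finset.sum_congr rfl fun χ hχ => ?_
    rw [← Finset.mul_sum]
    have h := sum_conj_apply_mul χ.2 J J
    rw [hval χ hχ J hJ2] at h
    have h0 := apply_one_ne_zero χ.2
    field_simp
    linear_combination (a χ : ℂ) * h + (Nat.card G : ℂ) * (a χ : ℂ) * haa χ hχ
  have hfib : Nat.card {x : G // ppart 2 (x * J * x⁻¹ * J) ≠ 1}
      = Nat.card {v : G // orderOf v = 2 ∧ ppart 2 (v * J) ≠ 1} * Nat.card (Subgroup.centralizer ({J} : Set G)) := by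
    let π : {x : G // ppart 2 (x * J * x⁻¹ * J) ≠ 1} → {v : G // orderOf v = 2 ∧ ppart 2 (v * J) ≠ 1} := fun x =>
      ⟨x.1 * J * x.1⁻¹, by rw [← MulAut.conj_apply, MulEquiv.orderOf_eq, hJ2], x.2⟩
    rw [← Nat.card_congr (Equiv.sigmaFiberEquiv π), Nat.card_sigma, Finset.sum_congr rfl (g := fun _ =>
      Nat.card (Subgroup.centralizer ({J} : Set G))) (fun v _ => ?_), Finset.sum_const, Finset.card_univ,
      ← Nat.card_eq_fintype_card, smul_eq_mul]
    obtain ⟨c, hc⟩ := isConj_iff.1 (hone J v.1 hJ2 v.2.1)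
    have hy : ∀ y : Subgroup.centralizer ({J} : Set G), c * (y : G) * J * (c * (y : G))⁻¹ = v.1 := fun y => by
      rw [← hc, mul_inv_rev, mul_assoc c, Subgroup.mem_centralizer_singleton_iff.1 y.2]
      group
    have hx : ∀ x : {x // π x = v}, c⁻¹ * x.1.1 ∈ Subgroup.centralizer ({J} : Set G) := fun x => by
      have hx : x.1.1 * J * x.1.1⁻¹ = c * J * c⁻¹ := (congrArg Subtype.val x.2).trans hc.symm
      rw [Subgroup.mem_centralizer_singleton_iff]
      calc c⁻¹ * x.1.1 * J = c⁻¹ * (x.1.1 * J * x.1.1⁻¹) * x.1.1 := by group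
        _ = c⁻¹ * (c * J * c⁻¹) * x.1.1 := by rw [hx]
        _ = _ := by group
    exact (Nat.card_congr
      { toFun := fun y : Subgroup.centralizer ({J} : Set G) =>
          (⟨⟨c * (y : G), by rw [hy y]; exact v.2.2⟩, Subtype.ext (hy y)⟩ : {x // π x = v})
        invFun := fun x => ⟨c⁻¹ * x.1.1, hx x⟩
        left_inv := fun y => Subtype.ext (inv_mul_cancel_left c _)
        right_inv := fun x => Subtype.ext (Subtype.ext (mul_inv_cancel_left c x.1.1)) }).symm
  rw [Finset.sum_ite, Finset.sum_const_zero, zero_add, Finset.sum_const, ← Fintype.card_subtype,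
    ← Nat.card_eq_fintype_card, hfib, nsmul_eq_mul] at hsum
  have key := klein_singular_pairs hP hone hJ2
  rw [← hsum]
  have key' : (Nat.card {v : G // orderOf v = 2 ∧ ppart 2 (v * J) ≠ 1} : ℂ)
      * (Nat.card (Subgroup.centralizer ((P : Subgroup G) : Set G)) : ℂ) ^ 2
      = 2 * (Nat.card (Subgroup.centralizer ({J} : Set G)) : ℂ) ^ 2 := by exact_mod_cast key
  push_cast
  linear_combination (4 * (Nat.card (Subgroup.centralizer ({J} : Set G)) : ℂ)) * key'

end CfsgLib.ZStar
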