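import Cfsg.Agent.ZStar.Main
import Cfsg.Agent.S0071

/-!
# Fusion and the principal 2-block for a Sylow subgroup `Q₈`
-/

set_option autoImplicit false
set_option linter.style.haveILetI false
set_option linter.unusedSectionVars false
set_option linter.deprecated false

namespace CfsgLib.ZStar

open Cfsg QuaternionGroup CfsgLib.CharBasics
open scoped ComplexConjugate

universe u

/-- The three cyclic subgroups of order 4 of `Q₈`, as labels. -/
def qClass : QuaternionGroup 2 → Fin 3
  | a _ => 0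
  | xa i => if i = 0 ∨ i = 2 then 1 else 2

theorem qClass_eq : ∀ y z : QuaternionGroup 2, y * y ≠ 1 → z * z ≠ 1 → qClass y = qClass z → z = y ∨ z = y⁻¹ := by
  decide

theorem qClass_inv : ∀ y : QuaternionGroup 2, qClass y⁻¹ = qClass y := by decide

theorem q8_sq : ∀ y : QuaternionGroup 2, y * y ≠ 1 → y * y = a 2 := by decide

theorem q8_sq_one : ∀ y : QuaternionGroup 2, y * y = 1 → y = 1 ∨ y = a 2 := by decide

theorem q8_conj_inv : ∀ y : QuaternionGroup 2, y * y ≠ 1 → ∃ c, c * y * c⁻¹ = y⁻¹ := by decide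

theorem fin3_cover : ∀ i j k l : Fin 3, i ≠ j → j ≠ k → i ≠ k → l = i ∨ l = j ∨ l = k := by decide

variable {G : Type u} [Group G] [Finite G]

theorem fixed_of_conj_eq_or_inv {g y : G} (hg : Odd (orderOf g))
    (h : g * y * g⁻¹ = y ∨ g * y * g⁻¹ = y⁻¹) : g * y * g⁻¹ = y := by
  rcases h with h | h
  · exact h
  have h2 : Commute (g ^ 2) y := by
    refine mul_inv_eq_iff_eq_mul.1 ?_
    calc g ^ 2 * y * (g ^ 2)⁻¹ = g * (g * y * g⁻¹) * g⁻¹ := by rw [pow_two]; group
      _ = (g * y * g⁻¹)⁻¹ := by rw [h, ← conj_inv, h]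
      _ = y := by rw [h, inv_inv]
  obtain ⟨l, hl⟩ := hg
  have h3 : g = (g ^ 2) ^ (l + 1) := by
    rw [← pow_mul, show 2 * (l + 1) = (2 * l + 1) + 1 by ring, pow_succ, ← hl, pow_orderOf_eq_one, one_mul]
  have h4 : Commute g y := by rw [h3]; exact h2.pow_left _
  rw [h4.eq, mul_inv_cancel_right]

variable (S : Sylow 2 G) (e : (S : Subgroup G) ≃* QuaternionGroup 2)

include e in
theorem fixed_small {g : G} (hg : Odd (orderOf g)) {y : ↥(S : Subgroup G)} (hgy : g * (y : G) * g⁻¹ ∈ S)
    (h : y * y = 1) : g * (y : G) * g⁻¹ = y := by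
  rcases q8_sq_one (e y) (by rw [← map_mul, h, map_one]) with h1 | h1
  · rw [show y = 1 from e.map_eq_one_iff.1 h1]; simp
  · set w : ↥(S : Subgroup G) := ⟨_, hgy⟩ with hw
    have hww : w * w = 1 := Subtype.ext (by
      show g * (y : G) * g⁻¹ * (g * y * g⁻¹) = 1
      rw [conj_mul, show (y : G) * y = 1 from congrArg Subtype.val h]; simp)
    rcases q8_sq_one (e w) (by rw [← map_mul, hww, map_one]) with h2 | h2
    · have h3 : g * (y : G) * g⁻¹ = 1 := congrArg Subtype.val (e.map_eq_one_iff.1 h2)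
      rw [conj_eq_one_iff] at h3
      rw [h3]; simp
    · exact congrArg Subtype.val (e.injective (h2.trans h1.symm))

/-- An odd order element normalizing `S` without centralizing it moves every cyclic subgroup of order 4. -/
theorem qClass_moved {g : G} (hg : Odd (orderOf g)) (hgN : ∀ y : ↥(S : Subgroup G), g * (y : G) * g⁻¹ ∈ S)
    (hne : ∃ y : ↥(S : Subgroup G), g * (y : G) * g⁻¹ ≠ y) (y : ↥(S : Subgroup G)) (hy : y * y ≠ 1) :
    qClass (e ⟨_, hgN y⟩) ≠ qClass (e y) ∧
      qClass (e ⟨_, hgN ⟨_, hgN y⟩⟩) ≠ qClass (e ⟨_, hgN y⟩) ∧ qClass (e ⟨_, hgN ⟨_, hgN y⟩⟩) ≠ qClass (e y) := by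
  set φ : ↥(S : Subgroup G) → ↥(S : Subgroup G) := fun w => ⟨g * (w : G) * g⁻¹, hgN w⟩ with hφ
  have hsq : ∀ w : ↥(S : Subgroup G), w * w ≠ 1 → φ w * φ w ≠ 1 := fun w hw h => hw (by
    have h' : g * (w : G) * g⁻¹ * (g * w * g⁻¹) = 1 := congrArg Subtype.val h
    rw [conj_mul, conj_eq_one_iff] at h'
    exact Subtype.ext h')
  have hfix : ∀ w : ↥(S : Subgroup G), w * w ≠ 1 → qClass (e (φ w)) = qClass (e w) → g * (w : G) * g⁻¹ = w := by
    intro w hw h
    refine fixed_of_conj_eq_or_inv hg ?_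
    rcases qClass_eq _ _ (fun h' => hw (e.injective (by rw [map_mul, h', map_one])))
      (fun h' => hsq w hw (e.injective (by rw [map_mul, h', map_one]))) h.symm with h1 | h1
    · exact Or.inl (congrArg Subtype.val (e.injective h1))
    · exact Or.inr (congrArg Subtype.val (e.injective (h1.trans (map_inv e w).symm)))
  have hnofix : ∀ w : ↥(S : Subgroup G), w * w ≠ 1 → g * (w : G) * g⁻¹ ≠ w := by
    intro w hw hfw
    obtain ⟨z, hz⟩ := hne
    apply hz
    by_cases hz1 : z * z = 1
    · exact fixed_small S e hg (hgN z) hz1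
    by_cases hzw : qClass (e z) = qClass (e w)
    · rcases qClass_eq _ _ (fun h' => hw (e.injective (by rw [map_mul, h', map_one])))
        (fun h' => hz1 (e.injective (by rw [map_mul, h', map_one]))) hzw.symm with h1 | h1
      · rw [e.injective h1]; exact hfw
      · rw [e.injective (h1.trans (map_inv e w).symm), Subgroup.coe_inv, ← conj_inv, hfw]
    -- the images of `z` avoid the class of `w`
    have havoid : ∀ x : ↥(S : Subgroup G), x * x ≠ 1 → qClass (e x) ≠ qClass (e w) →
        qClass (e (φ x)) ≠ qClass (e w) := by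
      intro x hx hxw h
      apply hxw
      rcases qClass_eq _ _ (fun h' => hw (e.injective (by rw [map_mul, h', map_one])))
        (fun h' => hsq x hx (e.injective (by rw [map_mul, h', map_one]))) h.symm with h1 | h1
      · have h2 : g * (x : G) * g⁻¹ = w := congrArg Subtype.val (e.injective h1)
        rw [show x = w from Subtype.ext (mul_left_cancel (mul_right_cancel (h2.trans hfw.symm)))]
      · have h2 : g * (x : G) * g⁻¹ = (w : G)⁻¹ := congrArg Subtype.val (e.injective (h1.trans (map_inv e w).symm))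
        have h3 : g * (x : G) * g⁻¹ = g * (w : G)⁻¹ * g⁻¹ := by rw [h2, ← conj_inv, hfw]
        rw [show x = w⁻¹ from Subtype.ext (mul_left_cancel (mul_right_cancel h3)), map_inv, qClass_inv]
    have a1 := havoid z hz1 hzw
    have a2 := havoid _ (hsq z hz1) a1
    by_cases b1 : qClass (e (φ z)) = qClass (e z)
    · exact hfix z hz1 b1
    rcases fin3_cover (qClass (e w)) (qClass (e z)) (qClass (e (φ z))) (qClass (e (φ (φ z)))) (Ne.symm hzw)
      (Ne.symm b1) (Ne.symm a1) with h | h | h
    · exact absurd h a2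
    · have hg2 : g ^ 2 * (z : G) * (g ^ 2)⁻¹ = z ∨ g ^ 2 * (z : G) * (g ^ 2)⁻¹ = (z : G)⁻¹ := by
        have e2 : g ^ 2 * (z : G) * (g ^ 2)⁻¹ = (φ (φ z) : G) := by
          show _ = g * (g * (z : G) * g⁻¹) * g⁻¹
          rw [pow_two]; group
        rw [e2]
        rcases qClass_eq _ _ (fun h' => hz1 (e.injective (by rw [map_mul, h', map_one])))
          (fun h' => hsq _ (hsq z hz1) (e.injective (by rw [map_mul, h', map_one]))) h.symm with h1 | h1
        · exact Or.inl (congrArg Subtype.val (e.injective h1))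
        · exact Or.inr (congrArg Subtype.val (e.injective (h1.trans (map_inv e z).symm)))
      have hodd2 : Odd (orderOf (g ^ 2)) := Odd.of_dvd_nat hg (orderOf_pow_dvd _)
      have hc : Commute (g ^ 2) (z : G) := mul_inv_eq_iff_eq_mul.1 (fixed_of_conj_eq_or_inv hodd2 hg2)
      obtain ⟨l, hl⟩ := hg
      have h3 : g = (g ^ 2) ^ (l + 1) := by
        rw [← pow_mul, show 2 * (l + 1) = (2 * l + 1) + 1 by ring, pow_succ, ← hl, pow_orderOf_eq_one, one_mul]
      have h4 : Commute g (z : G) := by rw [h3]; exact hc.pow_left _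
      rw [h4.eq, mul_inv_cancel_right]
    · have h5 := hfix _ (hsq z hz1) h
      exact mul_left_cancel (mul_right_cancel h5)
  refine ⟨fun h => hnofix y hy (hfix y hy h), fun h => hnofix _ (hsq y hy) (hfix _ (hsq y hy) h), fun h => ?_⟩
  apply hnofix y hy
  have hg2 : g ^ 2 * (y : G) * (g ^ 2)⁻¹ = y ∨ g ^ 2 * (y : G) * (g ^ 2)⁻¹ = (y : G)⁻¹ := by
    have e2 : g ^ 2 * (y : G) * (g ^ 2)⁻¹ = (φ (φ y) : G) := by
      show _ = g * (g * (y : G) * g⁻¹) * g⁻¹
      rw [pow_two]; group
    rw [e2]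
    rcases qClass_eq _ _ (fun h' => hy (e.injective (by rw [map_mul, h', map_one])))
      (fun h' => hsq _ (hsq y hy) (e.injective (by rw [map_mul, h', map_one]))) h.symm with h1 | h1
    · exact Or.inl (congrArg Subtype.val (e.injective h1))
    · exact Or.inr (congrArg Subtype.val (e.injective (h1.trans (map_inv e y).symm)))
  have hc : Commute (g ^ 2) (y : G) :=
    mul_inv_eq_iff_eq_mul.1 (fixed_of_conj_eq_or_inv (Odd.of_dvd_nat hg (orderOf_pow_dvd _)) hg2)
  obtain ⟨l, hl⟩ := hg
  have h3 : g = (g ^ 2) ^ (l + 1) := by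
    rw [← pow_mul, show 2 * (l + 1) = (2 * l + 1) + 1 by ring, pow_succ, ← hl, pow_orderOf_eq_one, one_mul]
  have h4 : Commute g (y : G) := by rw [h3]; exact hc.pow_left _
  rw [h4.eq, mul_inv_cancel_right]

include e in
/-- Without a normal 2-complement an odd order element of the normalizer acts nontrivially on `S`. -/
theorem exists_moving (hnc : ∀ N : Subgroup G, N.Normal → ¬ Subgroup.IsComplement' N (S : Subgroup G)) :
    ∃ g ∈ Subgroup.normalizer ((S : Subgroup G) : Set G), Odd (orderOf g) ∧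
      ∃ y : ↥(S : Subgroup G), g * (y : G) * g⁻¹ ≠ y := by
  haveI := Fact.mk Nat.prime_two
  by_contra hno
  refine (show ¬ ∃ N : Subgroup G, N.Normal ∧ N.IsComplement' (S : Subgroup G) from fun ⟨N, h1, h2⟩ => hnc N h1 h2) ?_
  refine (Cfsg.Agent.S0071.result S).2 fun Q hQ g hg ho => ?_
  have hodd : Odd (orderOf g) := Nat.coprime_two_right.1 ho
  rw [Subgroup.mem_centralizer_iff]
  intro x hx
  refine (mul_inv_eq_iff_eq_mul.1 ?_).symm
  have hgx : g * x * g⁻¹ ∈ Q := (Subgroup.mem_normalizer_iff.1 hg x).1 hx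
  set y : ↥(S : Subgroup G) := ⟨x, hQ hx⟩ with hy
  set w : ↥(S : Subgroup G) := ⟨g * x * g⁻¹, hQ hgx⟩ with hw
  by_cases hy1 : y * y = 1
  · exact fixed_small S e hodd (y := y) (hQ hgx) hy1
  by_cases hcl : qClass (e w) = qClass (e y)
  · refine fixed_of_conj_eq_or_inv hodd ?_
    have hw1 : w * w ≠ 1 := fun h => hy1 (by
      have h' : g * x * g⁻¹ * (g * x * g⁻¹) = 1 := congrArg Subtype.val h
      rw [conj_mul, conj_eq_one_iff] at h'
      exact Subtype.ext h')
    rcases qClass_eq _ _ (fun h' => hy1 (e.injective (by rw [map_mul, h', map_one])))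
      (fun h' => hw1 (e.injective (by rw [map_mul, h', map_one]))) hcl.symm with h1 | h1
    · exact Or.inl (congrArg Subtype.val (e.injective h1))
    · exact Or.inr (congrArg Subtype.val (e.injective (h1.trans (map_inv e y).symm)))
  · -- `Q` is the whole of `S`
    have hQS : (S : Subgroup G) = Q := by
      refine le_antisymm ?_ hQ
      by_contra hlt
      have hc8 : Nat.card (S : Subgroup G) = 8 := by
        rw [Nat.card_congr e.toEquiv, Nat.card_eq_fintype_card, QuaternionGroup.card]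
      have h4 : Nat.card Q ≤ 4 := by
        have hd := Subgroup.card_dvd_of_le hQ
        have hne8 : Nat.card Q ≠ 8 := fun h8 => hlt (Subgroup.eq_of_le_of_card_ge hQ (by rw [hc8, h8])).ge
        rw [hc8] at hd
        have hmem : Nat.card Q ∈ Nat.divisors 8 := Nat.mem_divisors.2 ⟨hd, by norm_num⟩
        rw [show Nat.divisors 8 = {1, 2, 4, 8} from rfl] at hmem
        simp only [Finset.mem_insert, Finset.mem_singleton] at hmem
        omega
      have key : ({1, e y, (e y)⁻¹, (e y) * (e y), e w} : Finset (QuaternionGroup 2)).card = 5 := by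
        have : ∀ p q : QuaternionGroup 2, p * p ≠ 1 → qClass q ≠ qClass p → q * q ≠ 1 →
            ({1, p, p⁻¹, p * p, q} : Finset (QuaternionGroup 2)).card = 5 := by decide
        refine this _ _ (fun h' => hy1 (e.injective (by rw [map_mul, h', map_one]))) hcl fun h' => ?_
        have h2 : g * x * g⁻¹ * (g * x * g⁻¹) = 1 :=
          congrArg Subtype.val (e.injective (show e (w * w) = e 1 by rw [map_mul, h', map_one]))
        rw [conj_mul, conj_eq_one_iff] at h2
        exact hy1 (Subtype.ext h2)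
      classical
      haveI := Fintype.ofFinite Q
      let f : Q → QuaternionGroup 2 := fun q => e ⟨q, hQ q.2⟩
      have hsub : ({1, e y, (e y)⁻¹, (e y) * (e y), e w} : Finset (QuaternionGroup 2)) ⊆ Finset.univ.image f := by
        intro p hp
        simp only [Finset.mem_insert, Finset.mem_singleton] at hp
        rw [Finset.mem_image]
        rcases hp with rfl | rfl | rfl | rfl | rfl
        · exact ⟨1, Finset.mem_univ _, map_one e⟩
        · exact ⟨⟨x, hx⟩, Finset.mem_univ _, rfl⟩
        · exact ⟨⟨x⁻¹, inv_mem hx⟩, Finset.mem_univ _, (map_inv e y)⟩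
        · exact ⟨⟨x * x, mul_mem hx hx⟩, Finset.mem_univ _, (map_mul e y y)⟩
        · exact ⟨⟨g * x * g⁻¹, hgx⟩, Finset.mem_univ _, rfl⟩
      have := (Finset.card_le_card hsub).trans Finset.card_image_le
      rw [key, Finset.card_univ, ← Nat.card_eq_fintype_card] at this
      omega
    by_contra hne
    exact hno ⟨g, by rw [hQS]; exact hg, hodd, y, hne⟩

include e in
/-- Without a normal 2-complement the cyclic subgroups of order 4 of `S` are fused in `N(S)`. -/
theorem exists_normalizer_conj (hnc : ∀ N : Subgroup G, N.Normal → ¬ Subgroup.IsComplement' N (S : Subgroup G))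
    (y z : ↥(S : Subgroup G)) (hy : y * y ≠ 1) (hz : z * z ≠ 1) :
    ∃ n ∈ Subgroup.normalizer ((S : Subgroup G) : Set G), n * (y : G) * n⁻¹ = z ∨ n * (y : G) * n⁻¹ = (z : G)⁻¹ := by
  obtain ⟨g, hg, hodd, hne⟩ := exists_moving S e hnc
  have hgN : ∀ w : ↥(S : Subgroup G), g * (w : G) * g⁻¹ ∈ S := fun w =>
    (Subgroup.mem_normalizer_iff.1 hg _).1 w.2
  obtain ⟨h1, h2, h3⟩ := qClass_moved S e hodd hgN hne y hy
  have hconj : ∀ n : G, ∀ w : ↥(S : Subgroup G), (w : G) = n * (y : G) * n⁻¹ → qClass (e z) = qClass (e w) →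
      n * (y : G) * n⁻¹ = z ∨ n * (y : G) * n⁻¹ = (z : G)⁻¹ := by
    intro n w hw h
    have hw1 : w * w ≠ 1 := fun h' => hy (by
      have h'' : (w : G) * w = 1 := congrArg Subtype.val h'
      rw [hw, conj_mul, conj_eq_one_iff] at h''
      exact Subtype.ext h'')
    rcases qClass_eq _ _ (fun h' => hz (e.injective (by rw [map_mul, h', map_one])))
      (fun h' => hw1 (e.injective (by rw [map_mul, h', map_one]))) h with h4 | h4
    · exact Or.inl (hw.symm.trans (congrArg Subtype.val (e.injective h4)))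
    · exact Or.inr (hw.symm.trans (congrArg Subtype.val (e.injective (h4.trans (map_inv e z).symm))))
  rcases fin3_cover _ _ _ (qClass (e z)) h1.symm h2.symm h3.symm with h | h | h
  · exact ⟨1, one_mem _, hconj 1 y (by group) h⟩
  · exact ⟨g, hg, hconj g ⟨_, hgN y⟩ rfl h⟩
  · exact ⟨g * g, mul_mem hg hg, hconj (g * g) ⟨_, hgN ⟨_, hgN y⟩⟩
      (by show g * (g * (y : G) * g⁻¹) * g⁻¹ = _; group) h⟩

include e in
/-- All elements of order 4 of `S` are conjugate. -/
theorem fused_of_no_complement (hnc : ∀ N : Subgroup G, N.Normal → ¬ Subgroup.IsComplement' N (S : Subgroup G))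
    (y z : ↥(S : Subgroup G)) (hy : y * y ≠ 1) (hz : z * z ≠ 1) : IsConj (y : G) (z : G) := by
  obtain ⟨n, -, h | h⟩ := exists_normalizer_conj S e hnc y z hy hz
  · exact isConj_iff.2 ⟨n, h⟩
  · obtain ⟨c, hc⟩ := q8_conj_inv (e z) (fun h' => hz (e.injective (by rw [map_mul, h', map_one])))
    have h1 : e.symm c * z * (e.symm c)⁻¹ = z⁻¹ := e.injective (by simp [hc])
    exact (isConj_iff.2 ⟨n, h⟩).trans
      (isConj_iff.2 ⟨((e.symm c : ↥(S : Subgroup G)) : G), congrArg Subtype.val h1⟩).symm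

end CfsgLib.ZStar
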