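import Cfsg.Agent.ZStar.Q8Block

/-!
# The seven characters of the principal 2-block for a Sylow subgroup `Q₈`
-/

set_option autoImplicit false
set_option linter.style.haveILetI false
set_option linter.unusedSectionVars false
set_option linter.deprecated false

namespace CfsgLib.ZStar

open Cfsg QuaternionGroup CfsgLib.CharBasics
open scoped ComplexConjugate

universe u

variable {H : Type u} [Group H] [Fintype H] [Fact (Nat.Prime 2)]

theorem rs_eq_regular_sum (F : H → ℂ) : rs F = ∑ g, (if 2 ∣ orderOf g then 0 else F g) := by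
  classical
  unfold rs
  refine Finset.sum_congr rfl fun g _ => ?_
  by_cases h : ppart 2 g = 1
  · rw [if_pos h, if_neg ((regular_iff g).1 h)]
  · rw [if_neg h, if_pos (by by_contra h'; exact h ((regular_iff g).2 h'))]

theorem rs_ne_zero {M : Ideal AlgInt} (hM : IsPModular 2 M) {χ : IrrCharacter H}
    (hχ : χ ∈ principalBlock M H) : rs (χ : H → ℂ) ≠ 0 := by
  classical
  intro h
  rw [rs_eq_regular_sum] at h
  have h0 : CfsgLib.Blocks.omega (χ : H → ℂ) (regSum 2 H) = 0 := by
    rw [CfsgLib.Blocks.omega]
    simp only [regSum, CfsgLib.Blocks.coeff_ofFun, ite_mul, zero_mul, one_mul, h, zero_div]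
  have h1 := omega_regSum_congr hM hχ
  rw [h0, zero_sub] at h1
  exact not_small_regCard hM (by simpa using CfsgLib.Blocks.memLocalIdeal_neg h1)

theorem rs_eq_zero {M : Ideal AlgInt} (hM : IsPModular 2 M) {χ : IrrCharacter H}
    (hχ : χ ∉ principalBlock M H) : rs (χ : H → ℂ) = 0 := by
  rw [rs_eq_regular_sum]
  exact sum_regular_eq_zero hM hχ

namespace QSetup

variable {u : H} (D : QSetup u) (hz : u ∈ Subgroup.center H) (hm1 : D.m = 1)

include D hz hm1 in
/-- Exactly seven characters in the principal block. -/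
theorem card_principal {M : Ideal AlgInt} (hM : IsPModular 2 M) : Nat.card (principalBlock M H) = 7 := by
  classical
  obtain ⟨S, s, hS, hSp, hθ⟩ := exists_theta D hz hm1 hM
  obtain ⟨T, a, hT, hT1, ha, hout, hexp⟩ := exists_phi D hz hm1
  have hH : (Nat.card H : ℂ) ≠ 0 := Nat.cast_ne_zero.2 Nat.card_pos.ne'
  have hone1 : ∀ g, ((oneChar : IrrCharacter H) : H → ℂ) (u * g) = ((oneChar : IrrCharacter H) : H → ℂ) g :=
    fun g => by simp [oneChar_apply]
  -- inner products with the trivial character of an even character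
  have heven : ∀ χ : IrrCharacter H, χ ≠ oneChar → (∀ g, (χ : H → ℂ) (u * g) = (χ : H → ℂ) g) →
      2 * rs (χ : H → ℂ) + ∑ g, secFun 0 0 1 g * (χ : H → ℂ) g = 0 ∧
      classInner (secFun 0 0 4) (χ : H → ℂ)
        = 4 * (Nat.card H : ℂ)⁻¹ * conj (∑ g, secFun 0 0 1 g * (χ : H → ℂ) g) := by
    intro χ hne hu
    constructor
    · have h := classInner_ne χ.2 (oneChar : IrrCharacter H).2 (fun e => hne (Subtype.ext e))
      rw [classInner_eq] at h
      simp only [oneChar_apply, map_one, mul_one] at h
      rw [sum_split D hz, rs_congr (F := fun g => (χ : H → ℂ) (u * g)) (F' := (χ : H → ℂ)) (fun g _ => hu g)] at h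
      have h' := (mul_eq_zero.1 h).resolve_left (inv_ne_zero hH)
      linear_combination h'
    · rw [classInner_eq, map_sum, Finset.mul_sum, Finset.mul_sum]
      refine Finset.sum_congr rfl fun g _ => ?_
      rcases ppart_cases D hz g with h | h | ⟨-, -, h⟩
      · rw [secFun_regular _ _ _ h, secFun_regular _ _ _ h]; simp
      · rw [secFun_invol _ _ _ (by rw [h]; exact u_ne_one D) (by rw [h]; exact u_sq D),
          secFun_invol _ _ _ (by rw [h]; exact u_ne_one D) (by rw [h]; exact u_sq D)]; simp
      · rw [secFun_other _ _ _ h, secFun_other _ _ _ h, one_mul]; ring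
  have hTB : ∀ χ ∈ T, χ ∈ principalBlock M H := by
    intro χ hχ
    by_contra hB
    obtain ⟨hpm, hu, hin⟩ := ha χ hχ
    obtain ⟨e1, e2⟩ := heven χ (fun e => hT1 (e ▸ hχ)) hu
    rw [rs_eq_zero hM hB, mul_zero, zero_add] at e1
    rw [hin, e1, map_zero, mul_zero] at e2
    rcases hpm with e | e <;> rw [e] at e2 <;> norm_num at e2
  have hset : principalBlock M H = ((insert oneChar (T ∪ S) : Finset (IrrCharacter H)) : Set (IrrCharacter H)) := by
    ext χ
    simp only [Finset.coe_insert, Finset.coe_union, Set.mem_insert_iff, Set.mem_union, Finset.mem_coe]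
    constructor
    · intro hχ
      by_contra hno
      push Not at hno
      obtain ⟨h1, h2, h3⟩ := hno
      rcases apply_u_cases D hz χ with ⟨-, hu⟩ | ⟨-, hu⟩
      · obtain ⟨e1, e2⟩ := heven χ h1 hu
        rw [hout χ h2 h1] at e2
        have e3 : ∑ g, secFun 0 0 1 g * (χ : H → ℂ) g = 0 := by
          have := (mul_eq_zero.1 e2.symm).resolve_left (mul_ne_zero (by norm_num) (inv_ne_zero hH))
          simpa using congrArg conj this
        rw [e3, add_zero] at e1
        exact rs_ne_zero hM hχ ((mul_eq_zero.1 e1).resolve_left two_ne_zero)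
      · apply rs_ne_zero hM hχ
        have h : classInner (secFun 2 (-2) 0) (χ : H → ℂ) = 0 := by
          rw [show secFun 2 (-2) 0 = fun g => ∑ φ ∈ S, (s φ : ℂ) * (φ : H → ℂ) g from funext hθ, classInner_left_sum]
          refine Finset.sum_eq_zero fun φ hφ => ?_
          rw [classInner_ne φ.2 χ.2 (fun e => h3 (Subtype.ext e ▸ hφ)), mul_zero]
        rw [inner_split D hz _ _ 0 (fun g hg => by rw [secFun_other _ _ _ hg, zero_mul]) hm1,
          rs_congr (F' := fun g => 2 * conj ((χ : H → ℂ) g)) (fun g hg => by rw [secFun_regular _ _ _ hg]),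
          rs_congr (F := fun g => secFun 2 (-2) 0 (u * g) * conj ((χ : H → ℂ) (u * g)))
            (F' := fun g => 2 * conj ((χ : H → ℂ) g))
            (fun g hg => by rw [secFun_at_u D hz hg, hu, map_neg]; ring),
          rs_mul_left, ← conj_rs, zero_div, add_zero] at h
        have h' := (mul_eq_zero.1 h).resolve_left (inv_ne_zero hH)
        have h'' : conj (rs (χ : H → ℂ)) = 0 := by linear_combination h' / 4
        simpa using congrArg conj h''
    · rintro (rfl | h | h)
      · exact CfsgLib.Blocks.oneChar_mem_principal hM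
      · exact hTB χ h
      · exact (hSp χ h).2.1
  have hne0 : ∀ χ : IrrCharacter H, (χ : H → ℂ) (u * 1) = -(χ : H → ℂ) 1 → (χ : H → ℂ) (u * 1) ≠ (χ : H → ℂ) 1 :=
    fun χ h1 h2 => apply_one_ne_zero χ.2 (by rw [h1] at h2; linear_combination -h2 / 2)
  have hdisj : Disjoint T S := Finset.disjoint_left.2 fun χ h1 h2 =>
    hne0 χ ((hSp χ h2).2.2.1 1) ((ha χ h1).2.1 1)
  have hnot : (oneChar : IrrCharacter H) ∉ T ∪ S := by
    rw [Finset.mem_union]
    rintro (h | h)
    · exact hT1 h
    · exact hne0 _ ((hSp _ h).2.2.1 1) (hone1 1)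
  rw [hset, Nat.card_coe_set_eq, Set.ncard_coe_finset, Finset.card_insert_of_notMem hnot,
    Finset.card_union_of_disjoint hdisj, hS, hT]

end QSetup

omit [Fintype H] in
/-- Seven characters in the principal block for a Sylow subgroup `Q₈` without core. -/
theorem card_principal_q8 [Finite H] {M : Ideal AlgInt} (hM : IsPModular 2 M) (S : Sylow 2 H)
    (e : (S : Subgroup H) ≃* QuaternionGroup 2)
    (hO : ∀ N : Subgroup H, N.Normal → Odd (Nat.card N) → N = ⊥) (hne : (S : Subgroup H) ≠ ⊤) :
    Nat.card (principalBlock M H) = 7 := by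
  haveI : Fintype H := Fintype.ofFinite H
  set q₀ : QuaternionGroup 2 := a 2 with hq₀
  set u : H := ((e.symm q₀ : (S : Subgroup H)) : H) with hu
  have huniq : ∀ w : (S : Subgroup H), w * w = 1 → w ≠ 1 → (w : H) = u := by
    intro w hw hw1
    rcases q8_sq_one (e w) (by rw [← map_mul, hw, map_one]) with h | h
    · exact absurd (e.map_eq_one_iff.1 h) hw1
    · rw [hu, hq₀, ← h, MulEquiv.symm_apply_apply]
  have hu2 : orderOf u = 2 := by
    rw [hu, Subgroup.orderOf_coe, MulEquiv.orderOf_eq]
    exact orderOf_eq_prime (by rw [pow_two]; decide) (by decide)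
  have hiso := isolated_of_sylow S hu2 (e.symm q₀).2 fun g hg => by
    have h2 : orderOf (g * u * g⁻¹) = 2 := by rw [← MulAut.conj_apply, MulEquiv.orderOf_eq]; exact hu2
    refine huniq ⟨_, hg⟩ (Subtype.ext ?_) (fun h => ?_)
    · exact CfsgLib.Isolated.mul_self_of_orderOf_two h2
    · rw [show g * u * g⁻¹ = 1 from congrArg Subtype.val h, orderOf_one] at h2
      omega
  have hcore : pPrimeCore 2 H = ⊥ :=
    hO _ (Cfsg.pPrimeCore_normal 2 H) (Nat.coprime_two_right.1 (CfsgLib.PCore.pPrimeCore_coprime 2 H))
  have hcen : u ∈ Subgroup.center H := by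
    rw [Subgroup.mem_center_iff]
    intro g
    have h := zstar hiso g
    rw [hcore, Subgroup.mem_bot, mul_inv_eq_one, mul_inv_eq_iff_eq_mul] at h
    exact h.symm
  have hnc : ∀ N : Subgroup H, N.Normal → ¬ Subgroup.IsComplement' N (S : Subgroup H) := by
    intro N hN hc
    apply hne
    have h8 : Nat.card (S : Subgroup H) = 8 := by
      rw [Nat.card_congr e.toEquiv, Nat.card_eq_fintype_card, QuaternionGroup.card]
    have hodd : Odd (Nat.card N) := by
      rw [← hc.index_eq_card]
      exact Nat.odd_iff.2 (by have := S.not_dvd_index; omega)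
    rw [hO N hN hodd] at hc
    exact Subgroup.isComplement'_bot_left.1 hc
  let D : QSetup u :=
    { P := S, m := 1, k := 0, hm := rfl, e := e, heu := rfl
      fused := fun y z hy hz => by
        have key : ∀ w : (S : Subgroup H), (w : H) * w = u → w * w ≠ 1 := fun w hw h => by
          have h' : (w : H) * w = 1 := congrArg Subtype.val h
          rw [hw] at h'
          rw [h', orderOf_one] at hu2
          omega
        exact fused_of_no_complement S e hnc y z (key y hy) (key z hz) }
  exact D.card_principal hcen rfl hM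

end CfsgLib.ZStar
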