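import Cfsg.Agent.Blocks.StableFullDefect

/-!
# Real 2-blocks of full defect
-/

set_option autoImplicit false
set_option linter.unusedSectionVars false

namespace CfsgLib.ZStar.RealBlock

open Cfsg CfsgLib.CharBasics CfsgLib.Blocks
open scoped ComplexConjugate

variable {M : Ideal AlgInt} {G : Type*} [Group G] [Fintype G]

theorem coprime_pred (G : Type*) [Group G] [Finite G] : (Nat.card G - 1).Coprime (Nat.card G) := by
  have h : 0 < Nat.card G := Nat.card_pos
  obtain ⟨n, hn⟩ : ∃ n, Nat.card G = n + 1 := ⟨Nat.card G - 1, by omega⟩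
  rw [hn, Nat.add_sub_cancel, Nat.coprime_self_add_right]
  exact Nat.coprime_one_right n

theorem pow_pred (g : G) : g ^ (Nat.card G - 1) = g⁻¹ := by
  refine eq_inv_of_mul_eq_one_left ?_
  rw [← pow_succ, Nat.sub_add_cancel (Nat.card_pos : 0 < Nat.card G), pow_card_eq_one']

theorem powChar_pred (χ : IrrCharacter G) (g : G) :
    (powChar (coprime_pred G) χ : G → ℂ) g = conj ((χ : G → ℂ) g) := by
  rw [powChar_apply, pow_pred, apply_inv (isCharacter_of_irr χ.2)]

/-- A real block of full defect is principal. -/
theorem eq_principal_of_real (hM : IsPModular 2 M) {B : Set (IrrCharacter G)} (hB : IsPBlock M B)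
    (hdef : blockDefect 2 B = (Nat.card G).factorization 2)
    (hreal : ∀ ψ ∈ B, powChar (coprime_pred G) ψ ∈ B) : B = principalBlock M G :=
  eq_principal_of_stable hM (coprime_pred G) (fun g _ => pow_pred g) hB hdef hreal

/-- Real characters of odd degree are principal. -/
theorem mem_principal_of_real_odd (hM : IsPModular 2 M) {χ : IrrCharacter G}
    (hreal : ∀ g, conj ((χ : G → ℂ) g) = (χ : G → ℂ) g) (hodd : Odd (charDegree (χ : G → ℂ))) :
    χ ∈ principalBlock M G := by
  have h : sInf ((fun φ : IrrCharacter G => (charDegree (φ : G → ℂ)).factorization 2) ''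
      blockOf M (χ : G → ℂ)) = 0 :=
    Nat.sInf_eq_zero.2 (Or.inl ⟨χ, mem_blockOf_self hM χ,
      Nat.factorization_eq_zero_of_not_dvd fun h => Nat.not_even_iff_odd.2 hodd (even_iff_two_dvd.2 h)⟩)
  have hp := eq_principal_of_real hM (isPBlock_blockOf M χ) (by rw [blockDefect, h, Nat.sub_zero])
    fun ψ hψ => powChar_mem_blockOf _ (fun g => by rw [← powChar_apply (coprime_pred G), powChar_pred, hreal]) hψ
  exact hp ▸ mem_blockOf_self hM χ

theorem card_principal_le (hM : IsPModular 2 M) :
    Nat.card (principalBlock M G) ≤ 2 ^ (2 * (Nat.card G).factorization 2) := by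
  classical
  haveI : Fintype (IrrCharacter G) := @Fintype.ofFinite _ finite_irrCharacter
  have h := brauer_feit hM (isPBlock_principal (G := G) (M := M))
  have hd : blockDefect 2 (principalBlock M G) ≤ (Nat.card G).factorization 2 := Nat.sub_le _ _
  have hc : Nat.card (principalBlock M G) ≤ ∑ ρ : IrrCharacter G,
      (if ρ ∈ principalBlock M G then 2 ^ (2 * blockHeight 2 (principalBlock M G) (ρ : G → ℂ)) else 0) := by
    rw [Nat.card_eq_fintype_card, Fintype.card_subtype, Finset.card_filter]
    refine Finset.sum_le_sum fun ρ _ => ?_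
    split_ifs
    · exact Nat.one_le_two_pow
    · exact le_rfl
  have h1 : 2 ^ (2 * blockDefect 2 (principalBlock M G)) ≤ 2 ^ (2 * (Nat.card G).factorization 2) :=
    Nat.pow_le_pow_right two_pos (by omega)
  have h2 : 0 < 2 ^ (2 * (Nat.card G).factorization 2) := pow_pos two_pos _
  omega

end CfsgLib.ZStar.RealBlock
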